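import Groth.Agent.VarietyB.FibreGeneric
import Groth.Agent.VarietyB.ResMap
import Groth.Agent.VarietyB.DimSch
import Groth.Agent.CurvesB.DimOneTop
import Groth.Agent.Fga.IntegralSub
import Groth.Agent.S0219

/-!
# Curves not contracted by a morphism
-/

set_option autoImplicit false
universe u
open CategoryTheory CategoryTheory.Limits AlgebraicGeometry

namespace K510.ExistsCurve

open Groth.Agent.VarietyB.ResMap Groth.Agent.VarietyB.FibreGeneric

variable (k : Type u) [Field k]

/-- In a Noetherian sober space, a closed set which is not a union of closed points contains a point whose closure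
has dimension one. -/
theorem exists_point_dim_one {T : Type*} [TopologicalSpace T] [TopologicalSpace.NoetherianSpace T] [QuasiSober T]
    [T0Space T] (C : Set T) (hC : IsClosed C) (z : T) (hz : z ∈ C) (hz' : ¬ IsClosed ({z} : Set T)) :
    ∃ t ∈ C, ¬ IsClosed ({t} : Set T) ∧ topologicalKrullDim (closure ({t} : Set T)) = 1 := by
  have hwf : WellFoundedLT (TopologicalSpace.Closeds T) :=
    ((TopologicalSpace.noetherianSpace_TFAE T).out 0 1 :).1 inferInstance
  obtain ⟨K, ⟨t, ht, ht', rfl⟩, hmin⟩ := hwf.wf.has_min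
    {K : TopologicalSpace.Closeds T | ∃ t ∈ C, ¬ IsClosed ({t} : Set T) ∧ K = ⟨closure {t}, isClosed_closure⟩}
    ⟨_, z, hz, hz', rfl⟩
  refine ⟨t, ht, ht', ?_⟩
  rw [Groth.Agent.CurvesB.DimOneTop.topologicalKrullDim_closure_eq_one_iff]
  constructor
  · by_contra h
    push Not at h
    apply ht'
    have : ({t} : Set T) = closure {t} := by
      refine Set.Subset.antisymm subset_closure fun x hx => ?_
      exact h x (specializes_iff_mem_closure.2 hx)
    rw [this]
    exact isClosed_closure
  · intro x hx hne y hxy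
    by_contra hyx
    have hxC : x ∈ C := hC.closure_subset_iff.2 (Set.singleton_subset_iff.2 ht) (specializes_iff_mem_closure.1 hx)
    have hx' : ¬ IsClosed ({x} : Set T) := by
      intro h
      have := specializes_iff_mem_closure.1 hxy
      rw [h.closure_eq] at this
      exact hyx this
    refine hmin ⟨closure {x}, isClosed_closure⟩ ⟨x, hxC, hx', rfl⟩ ?_
    refine lt_of_le_of_ne ?_ ?_
    · exact hx.closure_subset
    · intro heq
      have h1 : closure ({x} : Set T) = closure {t} := congrArg (fun K : TopologicalSpace.Closeds T => (K : Set T)) heq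
      exact hne (Inseparable.eq (inseparable_iff_closure_eq.2 h1))

/-- A nonconstant proper morphism of schemes of finite type over a field does not contract some integral closed
curve. -/
theorem exists_curve {X Y : Scheme.{u}} (p : X ⟶ Spec (CommRingCat.of k)) (q : Y ⟶ Spec (CommRingCat.of k))
    [LocallyOfFiniteType p] [LocallyOfFiniteType q] [IsNoetherian Y]
    (f : X ⟶ Y) (hf : f ≫ q = p) [IsProper f] (z : Y) (hz : z ∈ Set.range f) (hz' : ¬ IsClosed ({z} : Set Y)) :
    ∃ (Z : Scheme.{u}) (i : Z ⟶ X), IsClosedImmersion i ∧ IsIntegral Z ∧ topologicalKrullDim Z = 1 ∧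
      (Set.range (i ≫ f)).Nontrivial := by
  let _ : X.Over (Spec (CommRingCat.of k)) := ⟨p⟩
  let _ : Y.Over (Spec (CommRingCat.of k)) := ⟨q⟩
  have hp : LocallyOfFiniteType (X ↘ (Spec (CommRingCat.of k))) := ‹LocallyOfFiniteType p›
  have hq : LocallyOfFiniteType (Y ↘ (Spec (CommRingCat.of k))) := ‹LocallyOfFiniteType q›
  obtain ⟨t, ⟨x, hx⟩, ht', htd⟩ := exists_point_dim_one (Set.range f) f.isClosedMap.isClosed_range z hz hz'
  -- a closed point of the fibre
  have hne : Nonempty (f.fiber t) := ⟨(f.fiberHomeo t).symm ⟨x, hx⟩⟩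
  have hcpt : CompactSpace (f.fiber t) := inferInstance
  obtain ⟨w, -, hw⟩ := (isClosed_univ (X := f.fiber t)).exists_closed_singleton Set.univ_nonempty
  have h1 := trd_fiber k f hf t w
  let _ : (f.fiber t).Over (Spec (CommRingCat.of (Y.residueField t))) := ⟨f.fiberToSpecResidueField t⟩
  have hft : LocallyOfFiniteType ((f.fiber t) ↘ (Spec (CommRingCat.of (Y.residueField t)))) :=
    inferInstanceAs (LocallyOfFiniteType (pullback.snd f (Y.fromSpecResidueField t)))
  have h2 : trd (Y.residueField t) (f.fiber t) w = 0 := by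
    have h3 := (dim_closure_eq_iff (Y.residueField t) (f.fiber t) w 0).1 (by
      rw [hw.closure_eq, topologicalKrullDim]
      have hs : Subsingleton (TopologicalSpace.IrreducibleCloseds ↑({w} : Set (f.fiber t))) := by
        refine ⟨fun a b => ?_⟩
        apply TopologicalSpace.IrreducibleCloseds.ext
        obtain ⟨a', ha'⟩ := a.isIrreducible.nonempty
        obtain ⟨b', hb'⟩ := b.isIrreducible.nonempty
        ext c
        rw [Subsingleton.elim c a']
        refine ⟨fun _ => ?_, fun _ => ha'⟩
        rw [Subsingleton.elim a' b']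
        exact hb'
      have hn : Nonempty (TopologicalSpace.IrreducibleCloseds ↑({w} : Set (f.fiber t))) :=
        ⟨⟨Set.univ, isIrreducible_iff_singleton.2 ⟨⟨w, rfl⟩, by ext c; simp [Subsingleton.elim c ⟨w, rfl⟩]⟩, isClosed_univ⟩⟩
      exact Order.krullDim_eq_zero)
    simpa using h3
  have h4 : trd k Y t = 1 := by
    have := (dim_closure_eq_iff k Y t 1).1 (by rw [htd]; rfl)
    simpa using this
  rw [h2, h4, add_zero] at h1
  set y := f.fiberι t w with hy
  have hfy : f y = t := by
    have : y ∈ Set.range (f.fiberι t) := ⟨w, rfl⟩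
    rw [f.range_fiberι] at this
    exact this
  obtain ⟨Z, i, hi, hZ, hiy, hir⟩ := Groth.Agent.Fga.IntegralSub.exists_integral_closed y
  refine ⟨Z, i, hi, hZ, ?_, ?_⟩
  · have h5 : topologicalKrullDim (closure {y} : Set X) = (1 : ℕ) := (dim_closure_eq_iff k X y 1).2 (by rw [h1]; simp)
    rw [← hir] at h5
    rw [← Nat.cast_one, ← h5]
    exact IsHomeomorph.topologicalKrullDim_eq _ i.isEmbedding.toHomeomorph.isHomeomorph
  · by_contra hnt
    rw [Set.not_nontrivial_iff] at hnt
    have h6 : t ∈ Set.range (i ≫ f) := ⟨genericPoint Z, by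
      rw [Scheme.Hom.comp_apply, hiy, hfy]⟩
    have h7 : Set.range (i ≫ f) = {t} := hnt.eq_singleton_of_mem h6
    apply ht'
    rw [← h7]
    exact (i ≫ f).isClosedMap.isClosed_range

end K510.ExistsCurve
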