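import Mathlib.NumberTheory.Padics.RingHoms
import Mathlib.LinearAlgebra.FreeModule.PID
import Mathlib.LinearAlgebra.Dimension.Finrank
import Mathlib.RingTheory.Artinian.Module
import Mathlib.Tactic

/-!
# Saturation of finitely generated subgroups in the presence of nondegenerate forms; passage to `ℤ_l`

`R` an abelian group with a family of biadditive forms `B x : R → R → ℤ` such that `B x a a = 0` for all `x`
implies `a = 0`.  Then the saturation of a finitely generated subgroup is finitely generated, and if `M : R → W` is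
an additive map to a `ℤ_l`-module such that `M β ∈ l^n W` implies `β ∈ l^n R`, then `M` sends `ℤ`-independent
families to `ℤ_l`-independent families.
-/

set_option autoImplicit false

namespace K510.Lattice

universe u v w

section

variable {R : Type*} [AddCommGroup R] {X : Type*} (B : X → R →+ R →+ ℤ)

/-- `a = 0` as soon as all the forms vanish at `a`. -/
def Sep : Prop := ∀ a : R, (∀ x, B x a a = 0) → a = 0

variable {B}

theorem Sep.isTorsionFree (hB : Sep B) {n : ℤ} (hn : n ≠ 0) {a : R} (h : n • a = 0) : a = 0 := by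
  refine hB a fun x => ?_
  have h1 : n * B x a a = 0 := by
    have h2 : B x (n • a) a = n * B x a a := by
      rw [map_zsmul]
      simp
    rw [← h2, h, map_zero]
    rfl
  exact (mul_eq_zero.1 h1).resolve_left hn

/-- The saturation of the span of a family. -/
def sat {m : ℕ} (a : Fin m → R) : Submodule ℤ R where
  carrier := {r | ∃ k : ℤ, k ≠ 0 ∧ k • r ∈ Submodule.span ℤ (Set.range a)}
  zero_mem' := ⟨1, one_ne_zero, by rw [smul_zero]; exact zero_mem _⟩
  add_mem' := by
    rintro r s ⟨k, hk, hr⟩ ⟨j, hj, hs⟩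
    refine ⟨k * j, mul_ne_zero hk hj, ?_⟩
    rw [smul_add]
    refine add_mem ?_ ?_
    · rw [mul_comm, mul_smul]
      exact Submodule.smul_mem _ _ hr
    · rw [mul_smul]
      exact Submodule.smul_mem _ _ hs
  smul_mem' := by
    rintro c r ⟨k, hk, hr⟩
    refine ⟨k, hk, ?_⟩
    rw [smul_comm]
    exact Submodule.smul_mem _ _ hr

theorem mem_sat {m : ℕ} {a : Fin m → R} {r : R} :
    r ∈ sat a ↔ ∃ k : ℤ, k ≠ 0 ∧ k • r ∈ Submodule.span ℤ (Set.range a) := Iff.rfl

theorem span_le_sat {m : ℕ} (a : Fin m → R) : Submodule.span ℤ (Set.range a) ≤ sat a := fun r hr =>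
  ⟨1, one_ne_zero, by rwa [one_smul]⟩

/-- clearing denominators -/
theorem exists_int_mul {m : ℕ} (c : Fin m → ℚ) : ∃ (D : ℤ) (d : Fin m → ℤ), D ≠ 0 ∧ ∀ i, (d i : ℚ) = D * c i := by
  refine ⟨∏ i, ((c i).den : ℤ), fun i => (∏ j ∈ Finset.univ.erase i, ((c j).den : ℤ)) * (c i).num, ?_, ?_⟩
  · exact Finset.prod_ne_zero_iff.2 fun i _ => by exact_mod_cast (c i).den_ne_zero
  · intro i
    have h1 : (∏ j, ((c j).den : ℤ)) = (∏ j ∈ Finset.univ.erase i, ((c j).den : ℤ)) * ((c i).den : ℤ) :=
      (Finset.prod_erase_mul _ _ (Finset.mem_univ i)).symm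
    rw [h1]
    push_cast
    rw [mul_assoc]
    congr 1
    rw [mul_comm]
    exact (Rat.mul_den_eq_num (c i)).symm

/-- the coordinate functional `c ↦ B x (∑ c_j a_j) a_i` -/
noncomputable def coord {m : ℕ} (a : Fin m → R) (p : X × Fin m) : (Fin m → ℚ) →ₗ[ℚ] ℚ :=
  ∑ j, ((B p.1 (a j) (a p.2) : ℤ) : ℚ) • LinearMap.proj j

theorem coord_apply {m : ℕ} (a : Fin m → R) (p : X × Fin m) (c : Fin m → ℚ) :
    coord (B := B) a p c = ∑ j, ((B p.1 (a j) (a p.2) : ℤ) : ℚ) * c j := by
  simp [coord]

theorem coord_int {m : ℕ} (a : Fin m → R) (p : X × Fin m) (d : Fin m → ℤ) :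
    coord (B := B) a p (fun j => (d j : ℚ)) = ((B p.1 (∑ j, d j • a j) (a p.2) : ℤ) : ℚ) := by
  rw [coord_apply, map_sum, AddMonoidHom.finsetSum_apply]
  push_cast
  refine Finset.sum_congr rfl fun j _ => ?_
  rw [map_zsmul, AddMonoidHom.smul_apply, zsmul_eq_mul]
  push_cast
  ring

theorem eq_zero_of_forms (hB : Sep B) {m : ℕ} {a : Fin m → R} {r : R} (hr : r ∈ sat a)
    (h : ∀ p : X × Fin m, B p.1 r (a p.2) = 0) : r = 0 := by
  obtain ⟨k, hk, hr⟩ := hr
  refine hB r fun x => ?_
  have h1 : ∀ s ∈ Submodule.span ℤ (Set.range a), B x r s = 0 := by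
    intro s hs
    refine Submodule.span_induction ?_ ?_ ?_ ?_ hs
    · rintro _ ⟨i, rfl⟩
      exact h (x, i)
    · exact map_zero _
    · intro u v _ _ hu hv
      rw [map_add, hu, hv, add_zero]
    · intro c u _ hu
      rw [map_zsmul, hu, smul_zero]
  have h2 := h1 _ hr
  rw [map_zsmul, zsmul_eq_mul, Int.cast_id] at h2
  exact (mul_eq_zero.1 h2).resolve_left hk

/-- Finitely many of the forms suffice on the saturation of a finite family. -/
theorem exists_finset (hB : Sep B) {m : ℕ} (a : Fin m → R) (ha : LinearIndependent ℤ a) :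
    ∃ S : Finset (X × Fin m), ∀ r ∈ sat a, (∀ p ∈ S, B p.1 r (a p.2) = 0) → r = 0 := by
  classical
  -- Artinianness of `ℚ^m`
  have key : ∃ S : Finset (X × Fin m), (⨅ p ∈ S, LinearMap.ker (coord (B := B) a p)) = ⊥ := by
    have hwf : WellFoundedLT (Submodule ℚ (Fin m → ℚ)) := inferInstance
    have hwf' : WellFoundedGT (Submodule ℚ (Fin m → ℚ))ᵒᵈ := inferInstance
    -- a minimal finite intersection
    obtain ⟨K, ⟨S, rfl⟩, hmin⟩ := hwf.wf.has_min
      (Set.range fun S : Finset (X × Fin m) => ⨅ p ∈ S, LinearMap.ker (coord (B := B) a p)) ⟨_, ∅, rfl⟩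
    refine ⟨S, ?_⟩
    by_contra hne
    obtain ⟨c, hc, hc0⟩ := (Submodule.ne_bot_iff _).1 hne
    obtain ⟨D, d, hD, hd⟩ := exists_int_mul c
    have hr0 : (∑ j, d j • a j) ≠ 0 := by
      intro h0
      have h1 := Fintype.linearIndependent_iff.1 ha d h0
      apply hc0
      funext i
      have h2 := hd i
      rw [h1 i, Int.cast_zero] at h2
      have h3 : (D : ℚ) ≠ 0 := by exact_mod_cast hD
      exact ((mul_eq_zero.1 h2.symm).resolve_left h3)
    have h4 : ¬ ∀ p : X × Fin m, B p.1 (∑ j, d j • a j) (a p.2) = 0 := fun h =>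
      hr0 (eq_zero_of_forms hB (span_le_sat a (Submodule.sum_mem _ fun j _ =>
        Submodule.smul_mem _ _ (Submodule.subset_span ⟨j, rfl⟩))) h)
    push Not at h4
    obtain ⟨p, hp⟩ := h4
    refine hmin (⨅ q ∈ insert p S, LinearMap.ker (coord (B := B) a q)) ⟨insert p S, rfl⟩ ?_
    refine lt_of_le_of_ne ?_ ?_
    · exact biInf_mono fun q hq => Finset.mem_insert_of_mem hq
    · intro heq
      have h5 : c ∈ (⨅ q ∈ insert p S, LinearMap.ker (coord (B := B) a q)) := by
        rw [heq]; exact hc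
      have h6 : c ∈ LinearMap.ker (coord (B := B) a p) := by
        have := (Submodule.mem_iInf _).1 h5 p
        exact (Submodule.mem_iInf _).1 this (Finset.mem_insert_self p S)
      rw [LinearMap.mem_ker] at h6
      have h7 : coord (B := B) a p (fun j => (d j : ℚ)) = 0 := by
        have : (fun j => (d j : ℚ)) = (D : ℚ) • c := by
          funext j
          rw [hd j]
          rfl
        rw [this, map_smul, h6, smul_zero]
      rw [coord_int] at h7
      exact hp (by exact_mod_cast h7)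
  obtain ⟨S, hS⟩ := key
  refine ⟨S, ?_⟩
  rintro r ⟨k, hk, hr⟩ h
  obtain ⟨d, hd⟩ := (Submodule.mem_span_range_iff_exists_fun ℤ).1 hr
  have h1 : (fun j => (d j : ℚ)) ∈ (⨅ p ∈ S, LinearMap.ker (coord (B := B) a p)) := by
    refine (Submodule.mem_iInf _).2 fun p => (Submodule.mem_iInf _).2 fun hp => ?_
    rw [LinearMap.mem_ker, coord_int, hd, map_zsmul]
    rw [AddMonoidHom.smul_apply, h p hp]
    simp
  rw [hS, Submodule.mem_bot] at h1
  have h2 : k • r = 0 := by
    rw [← hd]
    refine Finset.sum_eq_zero fun j _ => ?_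
    have : (d j : ℚ) = 0 := congrFun h1 j
    rw [show d j = 0 by exact_mod_cast this, zero_smul]
  exact hB.isTorsionFree hk h2

/-- The saturation of the span of a finite independent family is finitely generated. -/
theorem finite_sat (hB : Sep B) {m : ℕ} (a : Fin m → R) (ha : LinearIndependent ℤ a) :
    Module.Finite ℤ (sat a) := by
  obtain ⟨S, hS⟩ := exists_finset hB a ha
  let Ψ : sat a →+ (S → ℤ) :=
    { toFun := fun r p => B p.1.1 r.1 (a p.1.2)
      map_zero' := by
        funext p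
        simp
      map_add' := fun r s => by
        funext p
        simp }
  have hΨ : Function.Injective Ψ.toIntLinearMap := by
    rw [injective_iff_map_eq_zero]
    intro r hr
    refine Subtype.ext (hS r.1 r.2 fun p hp => ?_)
    exact congrFun hr ⟨p, hp⟩
  exact Module.Finite.of_injective _ hΨ

/-- There is a uniform multiplier bringing the saturation into the span. -/
theorem exists_smul_mem (hB : Sep B) {m : ℕ} (a : Fin m → R) (ha : LinearIndependent ℤ a) :
    ∃ D : ℤ, D ≠ 0 ∧ ∀ r ∈ sat a, D • r ∈ Submodule.span ℤ (Set.range a) := by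
  have := finite_sat hB a ha
  obtain ⟨n, s, hs⟩ := Module.Finite.exists_fin (R := ℤ) (M := sat a)
  choose k hk hk' using fun i => mem_sat.1 (s i).2
  refine ⟨∏ i, k i, Finset.prod_ne_zero_iff.2 fun i _ => hk i, fun r hr => ?_⟩
  have h1 : (⟨r, hr⟩ : sat a) ∈ Submodule.span ℤ (Set.range s) := by rw [hs]; trivial
  obtain ⟨c, hc⟩ := (Submodule.mem_span_range_iff_exists_fun ℤ).1 h1
  have h2 : r = ∑ i, c i • (s i).1 := by
    have h3 : (∑ i, c i • s i : sat a).1 = r := congrArg Subtype.val hc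
    rw [← h3]
    simp
  rw [h2, Finset.smul_sum]
  refine Submodule.sum_mem _ fun i _ => ?_
  rw [smul_comm]
  refine Submodule.smul_mem _ _ ?_
  rw [← Finset.prod_erase_mul _ _ (Finset.mem_univ i), mul_smul]
  exact Submodule.smul_mem _ _ (hk' i)

variable {l : ℕ} [hl : Fact l.Prime]

/-- **From `ℤ` to `ℤ_l`** (finite families). -/
theorem linearIndependent_fin (hB : Sep B) {W : Type*} [AddCommGroup W] [Module ℤ_[l] W] (M : R →+ W)
    (hM : ∀ (β : R) (n : ℕ), (∃ w : W, M β = ((l : ℤ_[l]) ^ n) • w) → ∃ β₁ : R, β = (l ^ n) • β₁)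
    {m : ℕ} (a : Fin m → R) (ha : LinearIndependent ℤ a) : LinearIndependent ℤ_[l] (fun i => M (a i)) := by
  obtain ⟨D, hD, hD'⟩ := exists_smul_mem hB a ha
  rw [Fintype.linearIndependent_iff]
  intro c hc
  -- `l ^ n` divides `D * c i` for all `n`
  have key : ∀ n : ℕ, ∀ i, (l : ℤ_[l]) ^ n ∣ (D : ℤ_[l]) * c i := by
    intro n
    -- approximations
    have h1 : ∀ i, ∃ (q : ℕ) (e : ℤ_[l]), c i = q + (l : ℤ_[l]) ^ n * e := by
      intro i
      have h2 := PadicInt.appr_spec n (c i)
      rw [Ideal.mem_span_singleton'] at h2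
      obtain ⟨e, he⟩ := h2
      exact ⟨(c i).appr n, e, by rw [mul_comm, he]; ring⟩
    choose q e hqe using h1
    have h3 : M (∑ i, q i • a i) = ((l : ℤ_[l]) ^ n) • (-∑ i, e i • M (a i)) := by
      rw [map_sum, smul_neg, Finset.smul_sum, eq_neg_iff_add_eq_zero, ← Finset.sum_add_distrib, ← hc]
      refine Finset.sum_congr rfl fun i _ => ?_
      rw [hqe i, add_smul, mul_smul, map_nsmul, Nat.cast_smul_eq_nsmul]
    obtain ⟨β, hβ⟩ := hM _ n ⟨_, h3⟩
    have hmem : β ∈ sat a := by
      refine ⟨(l : ℤ) ^ n, pow_ne_zero _ (by exact_mod_cast hl.out.ne_zero), ?_⟩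
      have : ((l : ℤ) ^ n) • β = (l ^ n) • β := by
        rw [← natCast_zsmul]; push_cast; rfl
      rw [this, ← hβ]
      exact Submodule.sum_mem _ fun i _ => Submodule.smul_of_tower_mem _ _ (Submodule.subset_span ⟨i, rfl⟩)
    obtain ⟨d, hd⟩ := (Submodule.mem_span_range_iff_exists_fun ℤ).1 (hD' β hmem)
    have h4 : ∑ i, (D * (q i : ℤ) - (l : ℤ) ^ n * d i) • a i = 0 := by
      simp_rw [sub_smul, mul_smul]
      rw [Finset.sum_sub_distrib, ← Finset.smul_sum, ← Finset.smul_sum, hd, sub_eq_zero]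
      have : ∑ i, (q i : ℤ) • a i = (l ^ n) • β := by
        rw [← hβ]
        exact Finset.sum_congr rfl fun i _ => natCast_zsmul _ _
      rw [this, ← natCast_zsmul β, smul_comm]
      push_cast
      rfl
    have h5 := Fintype.linearIndependent_iff.1 ha _ h4
    intro i
    have h6 : D * (q i : ℤ) = (l : ℤ) ^ n * d i := sub_eq_zero.1 (h5 i)
    have h7 : (D : ℤ_[l]) * (q i : ℤ_[l]) = (l : ℤ_[l]) ^ n * (d i : ℤ_[l]) := by exact_mod_cast congrArg (Int.cast : ℤ → ℤ_[l]) h6
    rw [hqe i, mul_add, h7]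
    exact dvd_add (Dvd.intro _ rfl) (Dvd.intro (D * e i) (by ring))
  intro i
  have h8 : (D : ℤ_[l]) * c i = 0 := by
    by_contra hne
    obtain ⟨x, hx⟩ := key (((D : ℤ_[l]) * c i).valuation + 1) i
    have h9 : x ≠ 0 := by
      rintro rfl
      exact hne (by rw [hx, mul_zero])
    have h10 := congrArg PadicInt.valuation hx
    rw [PadicInt.valuation_mul (pow_ne_zero _ (by exact_mod_cast hl.out.ne_zero)) h9, PadicInt.valuation_pow,
      PadicInt.valuation_p] at h10
    omega
  exact (mul_eq_zero.1 h8).resolve_left (by exact_mod_cast hD)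

/-- **From `ℤ` to `ℤ_l`**. -/
theorem linearIndependent (hB : Sep B) {W : Type*} [AddCommGroup W] [Module ℤ_[l] W] (M : R →+ W)
    (hM : ∀ (β : R) (n : ℕ), (∃ w : W, M β = ((l : ℤ_[l]) ^ n) • w) → ∃ β₁ : R, β = (l ^ n) • β₁)
    {ι : Type*} (a : ι → R) (ha : LinearIndependent ℤ a) : LinearIndependent ℤ_[l] (fun i => M (a i)) := by
  rw [linearIndependent_iff_finset_linearIndependent]
  intro s
  let e := (Fintype.equivFin s).symm
  have h1 : LinearIndependent ℤ (fun j : Fin (Fintype.card s) => a (e j)) :=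
    ha.comp (fun j => (e j : ι)) (Subtype.val_injective.comp e.injective)
  have h2 := linearIndependent_fin hB M hM _ h1
  have h3 := h2.comp e.symm e.symm.injective
  convert h3 using 1
  funext j
  simp

/-- If independent families have bounded length then `R` is finitely generated. -/
theorem finite_of_bound (hB : Sep B) (d : ℕ)
    (hd : ∀ (m : ℕ) (a : Fin m → R), LinearIndependent ℤ a → m ≤ d) : Module.Finite ℤ R := by
  classical
  let P : ℕ → Prop := fun m => ∃ a : Fin m → R, LinearIndependent ℤ a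
  have h0 : P 0 := ⟨Fin.elim0, linearIndependent_empty_type⟩
  obtain ⟨m, hm, a, ha⟩ : ∃ m, m = Nat.findGreatest P d ∧ P m :=
    ⟨_, rfl, Nat.findGreatest_spec (P := P) (Nat.zero_le d) h0⟩
  have hsat : sat a = ⊤ := by
    rw [eq_top_iff]
    rintro r -
    by_contra hr
    have h1 : LinearIndependent ℤ (Fin.cons r a : Fin (m + 1) → R) := by
      refine LinearIndependent.finCons' r a ha ?_
      intro c y hy hcy
      by_contra hc
      apply hr
      refine ⟨c, hc, ?_⟩
      rw [eq_neg_of_add_eq_zero_left hcy]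
      exact neg_mem hy
    have h2 : m + 1 ≤ Nat.findGreatest P d := Nat.le_findGreatest (hd _ _ h1) ⟨_, h1⟩
    omega
  have := finite_sat hB a ha
  rw [hsat] at this
  exact Module.Finite.of_surjective (Submodule.topEquiv (R := ℤ) (M := R)).toLinearMap
    (Submodule.topEquiv (R := ℤ) (M := R)).surjective

end

end K510.Lattice
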