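import Groth.Agent.Sga7.H515.FKLam
import Groth.Agent.Pic13.H945.DegAmple
import Groth.Agent.Sga5.AmpleFib
import Groth.Agent.Books.AlgPtsGrp
import Groth.Agent.S0219
import Groth.Agent.AbVar.K510.Lattice
import Groth.Agent.AbVar.K510.ExistsCurve
import Groth.Prelude.Def_EndTate
import Mathlib.AlgebraicGeometry.Group.Abelian

/-!
# Degree forms on `Hom(A, B)` attached to curves in `A` and an ample class on `B`
-/

set_option autoImplicit false
universe u

open CategoryTheory Limits MonoidalCategory CartesianMonoidalCategory AlgebraicGeometry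
open scoped MonObj

namespace K510.CurveForm

open Groth.Agent.Grpsch.PicGrp Groth.Agent.Grpsch.Cube Groth.Agent.Sga7.H515.FKLam
open Groth.Agent.Etcore.DegZero Groth.Agent.Pic13.H945.DegAmple

variable {k : Type u} [Field k]

/-- The degree on a scheme over `k`. -/
noncomputable def dgo (Y : Over (Spec (CommRingCat.of k))) : Pic Y.left → ℤ := @dg k _ Y.left ⟨Y.hom⟩

theorem dgo_one (Y : Over (Spec (CommRingCat.of k))) : dgo Y 1 = 0 := @dg_one k _ Y.left ⟨Y.hom⟩

theorem dgo_mul (Y : Over (Spec (CommRingCat.of k))) [IsProper Y.hom] [IsIntegral Y.left]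
    (hd : topologicalKrullDim Y.left = 1) (a b : Pic Y.left) : dgo Y (a * b) = dgo Y a + dgo Y b := by
  let _ : Y.left.Over (Spec (CommRingCat.of k)) := ⟨Y.hom⟩
  have : IsProper (Y.left ↘ (Spec (CommRingCat.of k))) := inferInstanceAs (IsProper Y.hom)
  exact dg_mul k Y.left hd a b

theorem dgo_pos (Y : Over (Spec (CommRingCat.of k))) [IsProper Y.hom] [IsIntegral Y.left]
    (hd : topologicalKrullDim Y.left = 1) {L : Y.left.Modules} (hL : CohB1.IsAmple L) : 0 < dgo Y (mk L hL.1) := by
  let _ : Y.left.Over (Spec (CommRingCat.of k)) := ⟨Y.hom⟩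
  have : IsProper (Y.left ↘ (Spec (CommRingCat.of k))) := inferInstanceAs (IsProper Y.hom)
  exact (isAmple_iff_dg_pos k Y.left hd hL.1).1 hL

/-- An integral closed curve in `A`. -/
structure Curve (A : Over (Spec (CommRingCat.of k))) where
  /-- the curve -/
  Y : Over (Spec (CommRingCat.of k))
  /-- the embedding -/
  i : Y ⟶ A
  ci : IsClosedImmersion i.left
  int : IsIntegral Y.left
  dim : topologicalKrullDim Y.left = 1

section form

variable {A B : Over (Spec (CommRingCat.of k))} [GrpObj A] [IsCommMonObj A] [IsProper A.hom]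
  [GrpObj B] [IsCommMonObj B] [IsProper B.hom] [GeometricallyIntegral B.hom]

omit [GrpObj A] [IsCommMonObj A] in
theorem Curve.isProper (C : Curve A) : IsProper C.Y.hom := by
  have := C.ci
  rw [← Over.w C.i]
  infer_instance

/-- The form `(α, β) ↦ deg((α + β)^* L ⊗ α^*L⁻¹ ⊗ β^*L⁻¹ |_C)`. -/
noncomputable def form (L : Pic B.left) (C : Curve A) : EndAV.Hom A B →+ EndAV.Hom A B →+ ℤ :=
  AddMonoidHom.mk' (fun α => AddMonoidHom.mk' (fun β => dgo C.Y (lam L (C.i ≫ α.toHom) (C.i ≫ β.toHom)))
    (fun β β' => by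
      have := C.int
      have := C.isProper
      rw [EndAV.Hom.toHom_add, MonObj.comp_mul, lam_mul_right, dgo_mul _ C.dim]))
    (fun α α' => by
      have := C.int
      have := C.isProper
      ext β
      change dgo C.Y (lam L (C.i ≫ (α + α').toHom) (C.i ≫ β.toHom)) =
        dgo C.Y (lam L (C.i ≫ α.toHom) (C.i ≫ β.toHom)) + dgo C.Y (lam L (C.i ≫ α'.toHom) (C.i ≫ β.toHom))
      rw [EndAV.Hom.toHom_add, MonObj.comp_mul, lam_mul_left, dgo_mul _ C.dim])

theorem form_apply (L : Pic B.left) (C : Curve A) (α β : EndAV.Hom A B) :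
    form L C α β = dgo C.Y (lam L (C.i ≫ α.toHom) (C.i ≫ β.toHom)) := rfl

theorem form_self (L : Pic B.left) (C : Curve A) (α : EndAV.Hom A B) :
    form L C α α = dgo C.Y (pl (C.i ≫ α.toHom) L) + dgo C.Y (pl (C.i ≫ α.toHom)⁻¹ L) := by
  have := C.int
  have := C.isProper
  rw [form_apply, ← dgo_mul _ C.dim]
  congr 1
  have h1 : lam L (C.i ≫ α.toHom) (C.i ≫ α.toHom) * lam L (C.i ≫ α.toHom) (C.i ≫ α.toHom)⁻¹ = 1 := by
    rw [← lam_mul_right, mul_inv_cancel, lam_one_right]
  rw [lam_inv_self] at h1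
  exact mul_inv_eq_one.1 h1

theorem form_pos {M : B.left.Modules} (hM : CohB1.IsAmple M) (C : Curve A) (α : EndAV.Hom A B)
    (hα : (Set.range (C.i ≫ α.toHom).left).Nontrivial) : 0 < form (mk M hM.1) C α α := by
  have := C.int
  have := C.isProper
  rw [form_self]
  have hfin : IsFinite (C.i ≫ α.toHom).left := by
    refine Groth.Agent.S0219.result k C.Y.left B.left C.Y.hom B.hom _ (Over.w _) C.dim.le ?_
    intro Z hZ _
    have h1 : Z = Set.univ := by
      have : irreducibleComponents (C.Y.left : Type u) = {Set.univ} := irreducibleComponents_eq_singleton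
      rw [this] at hZ
      exact hZ
    rw [h1, Set.image_univ]
    exact hα
  have h1 : (C.i ≫ α.toHom)⁻¹ = (C.i ≫ α.toHom) ≫ GrpObj.inv := rfl
  have h2 : IsIso (GrpObj.inv : B ⟶ B) := inferInstance
  have h3 : IsIso (GrpObj.inv : B ⟶ B).left := inferInstanceAs (IsIso ((Over.forget _).map (GrpObj.inv : B ⟶ B)))
  have h4 : IsAffineHom ((C.i ≫ α.toHom)⁻¹).left := by
    rw [h1, Over.comp_left]
    infer_instance
  have a1 := Groth.Agent.Sga5.AmpleFib.isAmple_pullback (C.i ≫ α.toHom).left hM
  have a2 := Groth.Agent.Sga5.AmpleFib.isAmple_pullback ((C.i ≫ α.toHom)⁻¹).left hM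
  have b1 := dgo_pos C.Y C.dim a1
  have b2 := dgo_pos C.Y C.dim a2
  rw [← pull_mk _ hM.1] at b1
  rw [← pull_mk _ hM.1] at b2
  exact add_pos b1 b2

variable [GeometricallyIntegral A.hom]

omit [IsProper A.hom] [GeometricallyIntegral B.hom] in
/-- If the image of the generic point is closed, the homomorphism is trivial. -/
theorem eq_zero_of_isClosed (α : EndAV.Hom A B) (η₀ : A.left) (hη : closure ({η₀} : Set A.left) = Set.univ)
    (h : IsClosed ({α.toHom.left η₀} : Set B.left)) : α = 0 := by
  have hAi : IsIntegral A.left := GeometricallyIntegral.isIntegral_of_subsingleton A.hom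
  have hx : IsClosedImmersion (η[B] : 𝟙_ (Over (Spec (CommRingCat.of k))) ⟶ B).left := by
    have h4 : IsClosedImmersion ((η[B] : 𝟙_ (Over (Spec (CommRingCat.of k))) ⟶ B).left ≫ B.hom) := by
      rw [Over.w]
      change IsClosedImmersion (𝟙 (Spec (CommRingCat.of k)))
      infer_instance
    exact IsClosedImmersion.of_comp _ B.hom
  have h1 : ∀ z : A.left, α.toHom.left z = α.toHom.left η₀ := by
    intro z
    have h2 : z ∈ closure ({η₀} : Set A.left) := by rw [hη]; trivial
    have h3 : α.toHom.left z ∈ closure (α.toHom.left '' {η₀}) :=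
      image_closure_subset_closure_image α.toHom.left.continuous ⟨z, h2, rfl⟩
    rw [Set.image_singleton, h.closure_eq] at h3
    exact h3
  obtain ⟨s, hs⟩ := Groth.Agent.Books.AlgPtsGrp.exists_lift (η[B]) α.toHom (by
    rintro _ ⟨z, rfl⟩
    have h4 : η[A] ≫ α.toHom = η[B] := IsMonHom.one_hom _
    refine ⟨IsLocalRing.closedPoint k, ?_⟩
    rw [h1 z, ← h1 ((η[A] : 𝟙_ (Over (Spec (CommRingCat.of k))) ⟶ A).left (IsLocalRing.closedPoint k)), ← h4,
      Over.comp_left]
    rfl)
  refine EndAV.Hom.ext ?_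
  rw [← hs, toUnit_unique s (toUnit A)]
  rfl

/-- **The degree forms separate homomorphisms.** -/
theorem sep {M : B.left.Modules} (hM : CohB1.IsAmple M) :
    K510.Lattice.Sep (R := EndAV.Hom A B) (form (A := A) (mk M hM.1)) := by
  intro α h
  by_contra hα
  have hAi : IsIntegral A.left := GeometricallyIntegral.isIntegral_of_subsingleton A.hom
  have hBn : IsLocallyNoetherian B.left := LocallyOfFiniteType.isLocallyNoetherian B.hom
  have hBc : CompactSpace B.left := QuasiCompact.compactSpace_of_compactSpace B.hom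
  have hBn' : IsNoetherian B.left := { }
  have hprop : IsProper α.toHom.left := by
    have h1 : IsProper (α.toHom.left ≫ B.hom) := by rw [Over.w]; infer_instance
    exact IsProper.of_comp _ B.hom
  obtain ⟨Z, i, hi, hZ, hZd, hZn⟩ := K510.ExistsCurve.exists_curve k A.hom B.hom α.toHom.left (Over.w _)
    (α.toHom.left (genericPoint A.left)) ⟨_, rfl⟩
    (fun hc => hα (eq_zero_of_isClosed α (genericPoint A.left) (genericPoint_closure (α := A.left)) hc))
  let C : Curve A := ⟨Over.mk (i ≫ A.hom), Over.homMk i rfl, hi, hZ, hZd⟩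
  have h1 := form_pos hM C α hZn
  rw [h C] at h1
  exact lt_irrefl _ h1

end form

end K510.CurveForm
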