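import Groth.Agent.AbVar.K510.Factor
import Groth.Agent.AbVar.K510.CurveForm
import Groth.Agent.Grpsch.MulFin

/-!
# Homomorphisms of abelian varieties and Tate modules over an algebraically closed field
-/

set_option autoImplicit false
universe u

open CategoryTheory Limits MonoidalCategory CartesianMonoidalCategory AlgebraicGeometry
open scoped MonObj

namespace K510.TateHom

open AbDual Groth.Agent

section any

variable {k : Type u} [Field k] {A B : Over (Spec (CommRingCat.of k))}
  [GrpObj A] [IsCommMonObj A] [IsProper A.hom] [GeometricallyIntegral A.hom]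
  [GrpObj B] [IsCommMonObj B] [IsProper B.hom] [GeometricallyIntegral B.hom]

variable (A B) in
/-- There is a separating family of integral forms on `Hom(A, B)`, over any field. -/
theorem exists_sep : ∃ (X : Type (u + 1)) (F : X → EndAV.Hom A B →+ EndAV.Hom A B →+ ℤ), K510.Lattice.Sep F := by
  obtain ⟨M, hM, -⟩ := Grpsch.MulFin.exists_symm_ample B
  exact ⟨_, _, K510.CurveForm.sep hM⟩

/-- `Hom(A, B)` is torsion-free, over any field. -/
theorem eq_zero_of_zsmul {n : ℤ} (hn : n ≠ 0) {α : EndAV.Hom A B} (h : n • α = 0) : α = 0 := by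
  obtain ⟨X, F, hF⟩ := exists_sep A B
  exact hF.isTorsionFree hn h

theorem eq_zero_of_nsmul {n : ℕ} (hn : n ≠ 0) {α : EndAV.Hom A B} (h : n • α = 0) : α = 0 :=
  eq_zero_of_zsmul (n := (n : ℤ)) (by exact_mod_cast hn) (by rw [natCast_zsmul, h])

instance isAddTorsionFree : IsAddTorsionFree (EndAV.Hom A B) := by
  refine ⟨fun n hn α β h => ?_⟩
  have h1 : n • (α - β) = 0 := by
    rw [nsmul_sub]
    exact sub_eq_zero.2 h
  exact sub_eq_zero.1 (eq_zero_of_nsmul hn h1)

end any

section closed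

variable {k : Type u} [Field k] [IsAlgClosed k] {l : ℕ} [hlp : Fact l.Prime]
  {A B : Over (Spec (CommRingCat.of k))}
  [GrpObj A] [IsCommMonObj A] [IsProper A.hom] [GeometricallyIntegral A.hom]
  [GrpObj B] [IsCommMonObj B] [IsProper B.hom] [GeometricallyIntegral B.hom]

/-- the base point -/
local notation "pt₀" => (Over.mk (𝟙 (Spec (CommRingCat.of k))))

omit [IsAlgClosed k] [IsProper A.hom] [GeometricallyIntegral A.hom] [IsProper B.hom] [GeometricallyIntegral B.hom] in
theorem tateMap_val (φ : A ⟶ B) [IsMonHom φ] (y : TateMod A l pt₀) (n : ℕ) :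
    ((tateMapₗ (l := l) (T := pt₀) φ y : TateMod B l pt₀) : ℕ → Additive (pt₀ ⟶ B)) n =
      Additive.ofMul (((y : ℕ → Additive (pt₀ ⟶ A)) n).toMul ≫ φ) := rfl

omit [IsProper B.hom] [GeometricallyIntegral B.hom] in
/-- If `T_l φ` is divisible by `l^n` then `φ` kills the `l^n`-torsion points. -/
theorem comp_eq_one (φ : A ⟶ B) [IsMonHom φ] (n : ℕ)
    (u : TateMod A l pt₀ →ₗ[ℤ_[l]] TateMod B l pt₀)
    (hu : tateMapₗ (l := l) (T := pt₀) φ = ((l : ℤ_[l]) ^ n) • u) (x : pt₀ ⟶ A) (hx : x ^ (l ^ n) = 1) :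
    x ≫ φ = 1 := by
  obtain ⟨y, hy⟩ := K510.AVPts.exists_component_eq A l n x hx
  have h1 := tateMap_val φ y n
  rw [hy, hu] at h1
  have h2 := (K510.TateMod.val_eq_zero_iff ((((l : ℤ_[l]) ^ n) • u) y) n).2 ⟨u y, rfl⟩
  rw [h2] at h1
  exact (congrArg Additive.toMul h1).symm

omit [GeometricallyIntegral B.hom] in
theorem exists_eq_pow_comp (hl : (l : k) ≠ 0) (φ : A ⟶ B) [IsMonHom φ] (n : ℕ)
    (u : TateMod A l pt₀ →ₗ[ℤ_[l]] TateMod B l pt₀)
    (hu : tateMapₗ (l := l) (T := pt₀) φ = ((l : ℤ_[l]) ^ n) • u) :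
    ∃ φ' : A ⟶ B, IsMonHom φ' ∧ φ = (𝟙 A ^ (l ^ n)) ≫ φ' := by
  obtain ⟨φ', h1, h2⟩ := K510.Factor.exists_desc A B φ (l ^ n) (by rw [Nat.cast_pow]; exact pow_ne_zero _ hl)
    (fun x hx => comp_eq_one φ n u hu x hx)
  exact ⟨φ', h1, h2.symm⟩

theorem exists_nsmul (hl : (l : k) ≠ 0) (β : EndAV.Hom A B) (n : ℕ)
    (h : ∃ w, EndAV.Hom.tateMap l pt₀ β = ((l : ℤ_[l]) ^ n) • w) : ∃ β₁ : EndAV.Hom A B, β = (l ^ n) • β₁ := by
  obtain ⟨u, hu⟩ := h
  obtain ⟨φ', h1, h2⟩ := exists_eq_pow_comp hl β.toHom n u hu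
  refine ⟨EndAV.Hom.of φ', EndAV.Hom.ext ?_⟩
  rw [h2, EndAV.Hom.toHom_nsmul, EndAV.Hom.toHom_of, MonObj.pow_comp, Category.id_comp]

/-- **`Hom(A, B) ⊗ ℤ_l → Hom(T_l A, T_l B)` is injective**, in terms of independent families. -/
theorem linearIndependent (hl : (l : k) ≠ 0) {J : Type*} (a : J → EndAV.Hom A B) (ha : LinearIndependent ℤ a) :
    LinearIndependent ℤ_[l] (fun i => EndAV.Hom.tateMap l pt₀ (a i)) := by
  obtain ⟨X, F, hF⟩ := exists_sep A B
  exact K510.Lattice.linearIndependent hF (EndAV.Hom.tateMap l pt₀) (fun β n h => exists_nsmul hl β n h) a ha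

theorem injective_tateMap (hl : (l : k) ≠ 0) : Function.Injective (EndAV.Hom.tateMap (A := A) (B := B) l pt₀) := by
  rw [injective_iff_map_eq_zero]
  intro α hα
  by_contra hne
  have h1 : LinearIndependent ℤ (fun _ : Unit => α) := by
    rw [Fintype.linearIndependent_iff]
    intro c hc i
    by_contra h
    exact hne (eq_zero_of_zsmul h (by simpa using hc))
  have h2 := (linearIndependent hl _ h1).ne_zero ()
  exact h2 hα

end closed

section rank

variable {k : Type u} [Field k] [IsAlgClosed k] {A B : Over (Spec (CommRingCat.of k))}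
  [GrpObj A] [IsCommMonObj A] [IsProper A.hom] [GeometricallyIntegral A.hom]
  [GrpObj B] [IsCommMonObj B] [IsProper B.hom] [GeometricallyIntegral B.hom]

omit [IsAlgClosed k] in
variable (k) in
/-- There is a prime number invertible in `k`. -/
theorem exists_prime : ∃ l : ℕ, l.Prime ∧ (l : k) ≠ 0 := by
  by_cases h : ((2 : ℕ) : k) = 0
  · refine ⟨3, Nat.prime_three, ?_⟩
    have h1 : ((3 : ℕ) : k) = ((2 : ℕ) : k) + 1 := by push_cast; ring
    rw [h1, h, zero_add]
    exact one_ne_zero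
  · exact ⟨2, Nat.prime_two, h⟩

/-- **The rank of `Hom(A, B)` is at most `4 g h`.** -/
theorem card_le (g h : ℕ) (hg : topologicalKrullDim A.left = g) (hh : topologicalKrullDim B.left = h)
    (n : ℕ) (a : Fin n → EndAV.Hom A B) (ha : LinearIndependent ℤ a) : n ≤ 4 * g * h := by
  obtain ⟨l, hlp, hl⟩ := exists_prime k
  have hlp' : Fact l.Prime := ⟨hlp⟩
  have h1 := linearIndependent hl a ha
  have f1 := K510.AVPts.free_tateMod A l hl g hg
  have f2 := K510.AVPts.finite_tateMod A l hl g hg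
  have f3 := K510.AVPts.free_tateMod B l hl h hh
  have f4 := K510.AVPts.finite_tateMod B l hl h hh
  have h2 := h1.fintype_card_le_finrank
  rw [Fintype.card_fin, Module.finrank_linearMap, K510.AVPts.finrank_tateMod A l hl g hg,
    K510.AVPts.finrank_tateMod B l hl h hh] at h2
  calc n ≤ 2 * g * (2 * h) := h2
    _ = 4 * g * h := by ring

variable (A B) in
/-- **`Hom(A, B)` is finitely generated**, over an algebraically closed field. -/
theorem finite_hom : Module.Finite ℤ (EndAV.Hom A B) := by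
  have hA : IsIntegral A.left := GeometricallyIntegral.isIntegral_of_subsingleton A.hom
  have hB : IsIntegral B.left := GeometricallyIntegral.isIntegral_of_subsingleton B.hom
  let _ : A.left.Over (Spec (CommRingCat.of k)) := ⟨A.hom⟩
  let _ : B.left.Over (Spec (CommRingCat.of k)) := ⟨B.hom⟩
  have : LocallyOfFiniteType (A.left ↘ Spec (CommRingCat.of k)) := inferInstanceAs (LocallyOfFiniteType A.hom)
  have : LocallyOfFiniteType (B.left ↘ Spec (CommRingCat.of k)) := inferInstanceAs (LocallyOfFiniteType B.hom)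
  obtain ⟨X, F, hF⟩ := exists_sep A B
  exact K510.Lattice.finite_of_bound hF _ (fun m a ha => card_le _ _
    (Groth.Agent.VarietyB.DimSch.topologicalKrullDim_eq_trd k)
    (Groth.Agent.VarietyB.DimSch.topologicalKrullDim_eq_trd k) m a ha)

/-- The additive embedding into the group of all morphisms. -/
noncomputable def toAdd {S : Scheme.{u}} (A B : Over S) [GrpObj A] [IsCommMonObj A] [GrpObj B] [IsCommMonObj B] :
    EndAV.Hom A B →+ Additive (A ⟶ B) where
  toFun φ := Additive.ofMul φ.toHom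
  map_zero' := rfl
  map_add' _ _ := rfl

theorem linearIndependent_of {S : Scheme.{u}} {A B : Over S} [GrpObj A] [IsCommMonObj A] [GrpObj B] [IsCommMonObj B]
    {n : ℕ} (e : Fin n → (A ⟶ B)) [∀ i, IsMonHom (e i)]
    (he : LinearIndependent ℤ (fun i => Additive.ofMul (e i))) :
    LinearIndependent ℤ (fun i => (EndAV.Hom.of (e i) : EndAV.Hom A B)) :=
  LinearIndependent.of_comp (toAdd A B).toIntLinearMap he

end rank

end K510.TateHom
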