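import Groth.Agent.AbVar.K510.Dense
import Groth.Agent.AbVar.K515.Bc

/-!
# Density of the `l`-power torsion of an abelian variety over any field

`isIso_of_torsion`: a closed subscheme of an abelian variety over any field `k` containing all `A[l^n]`
(`l ≥ 2` invertible in `k`; in functorial form) is everything.
`eq_of_torsion`: two morphisms to a separated scheme agreeing on all `A[l^n]` are equal.
-/

set_option autoImplicit false
universe u

open CategoryTheory Limits MonoidalCategory CartesianMonoidalCategory AlgebraicGeometry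
open scoped MonObj

namespace K510.DenseAny

open Groth.Agent.Books.AlgPts Groth.Agent.Books.AlgPtsGrp Groth.Agent K515.Bc Groth.Agent.Sga67.TorsionLift

variable {k : Type u} [Field k]

theorem adjn_pow {Ω : Type u} [Field Ω] [Algebra k Ω] {X : Over (Spec (CommRingCat.of k))} [GrpObj X]
    {T : Over (Spec (CommRingCat.of Ω))} (a : T ⟶ bc Ω X) (n : ℕ) :
    adjn Ω (a ^ n) = adjn Ω a ^ n :=
  map_pow (MonoidHom.mk' (adjn Ω (X := X) (T := T)) (adjn_mul Ω)) a n

theorem adjn_one {Ω : Type u} [Field Ω] [Algebra k Ω] {X : Over (Spec (CommRingCat.of k))} [GrpObj X]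
    {T : Over (Spec (CommRingCat.of Ω))} : adjn Ω (1 : T ⟶ bc Ω X) = 1 :=
  map_one (MonoidHom.mk' (adjn Ω (X := X) (T := T)) (adjn_mul Ω))

instance surjective_pr (Ω : Type u) [Field Ω] [Algebra k Ω] (X : Over (Spec (CommRingCat.of k))) :
    Surjective (pr Ω X) := by
  have : Surjective (Groth.Agent.Sga7.H761.BaseChg.fKL k Ω) := by
    refine ⟨fun x => ⟨default, Subsingleton.elim (α := PrimeSpectrum k) _ _⟩⟩
  exact MorphismProperty.pullback_fst _ _ this

/-- **Density of torsion over any field.** -/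
theorem surjective_of_torsion (A : Over (Spec (CommRingCat.of k))) [GrpObj A]
    [IsProper A.hom] [GeometricallyIntegral A.hom] (l : ℕ) (hl : (l : k) ≠ 0) (hl2 : 2 ≤ l)
    (W : Over (Spec (CommRingCat.of k))) (i : W ⟶ A) [IsClosedImmersion i.left]
    (h : ∀ (n : ℕ) (T : Over (Spec (CommRingCat.of k))) (x : T ⟶ A), x ^ (l ^ n) = 1 → ∃ y : T ⟶ W, y ≫ i = x) :
    Surjective i.left := by
  let Ω := AlgebraicClosure k
  have hlΩ : (l : Ω) ≠ 0 := by
    have := (algebraMap k Ω).injective.ne hl
    rwa [map_natCast, map_zero] at this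
  have hd := K510.Dense.dense (bc Ω A) l hlΩ hl2
  have hcl : IsClosed (Set.range i.left) := i.left.isClosedEmbedding.isClosed_range
  have hcl2 : IsClosed ((pr Ω A) ⁻¹' (Set.range i.left)) := hcl.preimage (pr Ω A).continuous
  have hsub : pt '' (K510.Dense.torsSub (bc Ω A) l : Set (𝟙_ (Over (Spec (CommRingCat.of Ω))) ⟶ bc Ω A)) ⊆
      (pr Ω A) ⁻¹' (Set.range i.left) := by
    rintro _ ⟨x, ⟨n, hn⟩, rfl⟩
    obtain ⟨y, hy⟩ := h n _ (adjn Ω x) (by rw [← adjn_pow, hn, adjn_one])
    refine ⟨y.left (IsLocalRing.closedPoint Ω), ?_⟩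
    have h1 : y.left ≫ i.left = x.left ≫ pr Ω A := by
      rw [← Over.comp_left, hy, adjn_left]
    change (y.left ≫ i.left) _ = (x.left ≫ pr Ω A) _
    rw [h1]
  have huniv : (pr Ω A) ⁻¹' (Set.range i.left) = Set.univ := by
    apply Set.eq_univ_of_univ_subset
    rw [← hd.closure_eq]
    exact hcl2.closure_subset_iff.2 hsub
  refine ⟨fun a => ?_⟩
  obtain ⟨b, rfl⟩ := (pr Ω A).surjective a
  have : b ∈ (pr Ω A) ⁻¹' (Set.range i.left) := by rw [huniv]; trivial
  exact this

/-- **Density of torsion over any field**: a closed subscheme through which all `l`-power torsion points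
(with values in all `k`-schemes) factor is everything. -/
theorem isIso_of_torsion (A : Over (Spec (CommRingCat.of k))) [GrpObj A]
    [IsProper A.hom] [GeometricallyIntegral A.hom] (l : ℕ) (hl : (l : k) ≠ 0) (hl2 : 2 ≤ l)
    (W : Over (Spec (CommRingCat.of k))) (i : W ⟶ A) [IsClosedImmersion i.left]
    (h : ∀ (n : ℕ) (T : Over (Spec (CommRingCat.of k))) (x : T ⟶ A), x ^ (l ^ n) = 1 → ∃ y : T ⟶ W, y ≫ i = x) :
    IsIso i := by
  have h1 := surjective_of_torsion A l hl hl2 W i h
  have hAi : IsIntegral A.left := GeometricallyIntegral.isIntegral_of_subsingleton A.hom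
  have h2 : IsIso i.left := isIso_of_isClosedImmersion_of_surjective i.left
  have h3 : IsIso ((Over.forget _).map i) := h2
  exact isIso_of_reflects_iso i (Over.forget _)

/-- Two morphisms from an abelian variety to a separated scheme that agree on `A[l^n]` for all `n` are equal. -/
theorem eq_of_torsion (A : Over (Spec (CommRingCat.of k))) [GrpObj A]
    [IsProper A.hom] [GeometricallyIntegral A.hom] (l : ℕ) (hl : (l : k) ≠ 0) (hl2 : 2 ≤ l)
    {B : Over (Spec (CommRingCat.of k))} [IsSeparated B.hom] (f g : A ⟶ B)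
    (h : ∀ (n : ℕ) (T : Over (Spec (CommRingCat.of k))) (x : T ⟶ A), x ^ (l ^ n) = 1 → x ≫ f = x ≫ g) :
    f = g := by
  let W : Over (Spec (CommRingCat.of k)) := Limits.equalizer f g
  let i : W ⟶ A := equalizer.ι f g
  have hi : IsClosedImmersion i.left := inferInstance
  have h1 : IsIso i := isIso_of_torsion A l hl hl2 W i (fun n T x hx =>
    ⟨equalizer.lift x (h n T x hx), equalizer.lift_ι _ _⟩)
  rw [← cancel_epi i]
  exact equalizer.condition f g

/-- A homomorphism killing the `l`-power torsion is trivial. -/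
theorem eq_one_of_torsion (A : Over (Spec (CommRingCat.of k))) [GrpObj A]
    [IsProper A.hom] [GeometricallyIntegral A.hom] (l : ℕ) (hl : (l : k) ≠ 0) (hl2 : 2 ≤ l)
    {B : Over (Spec (CommRingCat.of k))} [GrpObj B] [IsSeparated B.hom] (f : A ⟶ B)
    (h : ∀ (n : ℕ) (T : Over (Spec (CommRingCat.of k))) (x : T ⟶ A), x ^ (l ^ n) = 1 → x ≫ f = 1) :
    f = 1 :=
  eq_of_torsion A l hl hl2 f 1 (fun n T x hx => by rw [h n T x hx, MonObj.comp_one])

end K510.DenseAny
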