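import Groth.Agent.AbVar.K510.TateMod
import Groth.Agent.Etcore.AbTors
import Groth.Agent.Books.AlgPts

/-!
# Points and Tate modules of abelian varieties over an algebraically closed field
-/

set_option autoImplicit false
universe u
open CategoryTheory MonoidalCategory CartesianMonoidalCategory MonObj GrpObj AlgebraicGeometry

namespace K510.AVPts

open AbDual Groth.Agent.Books.AlgPts

variable {k : Type u} [Field k]

section

variable (A : Over (Spec (CommRingCat.of k))) [GrpObj A] [IsProper A.hom] [GeometricallyIntegral A.hom]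

theorem card_torsPts [IsAlgClosed k] [IsCommMonObj A] (g : ℕ) (hg : topologicalKrullDim A.left = g) (N : ℕ)
    (hN : (N : k) ≠ 0) : Nat.card (torsPts A N (Over.mk (𝟙 (Spec (CommRingCat.of k))))) = N ^ (2 * g) :=
  Groth.Agent.Etcore.AbTors.card_torsion A g hg N hN

theorem finite_torsPts [IsAlgClosed k] [IsCommMonObj A] (g : ℕ) (hg : topologicalKrullDim A.left = g) (N : ℕ)
    (hN : (N : k) ≠ 0) : Finite (torsPts A N (Over.mk (𝟙 (Spec (CommRingCat.of k))))) := by
  refine Nat.finite_of_card_ne_zero ?_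
  rw [card_torsPts A g hg N hN]
  exact pow_ne_zero _ (by rintro rfl; exact hN Nat.cast_zero)

/-- The group of points of an abelian variety over an algebraically closed field is divisible. -/
theorem exists_pow_eq [IsAlgClosed k] (n : ℕ) (hn : 1 ≤ n)
    (x : Over.mk (𝟙 (Spec (CommRingCat.of k))) ⟶ A) :
    ∃ y : Over.mk (𝟙 (Spec (CommRingCat.of k))) ⟶ A, y ^ n = x := by
  have h1 : Surjective (𝟙 A ^ n : A ⟶ A).left := Groth.Agent.Grpsch.MulFin.surjective_pow A n hn
  obtain ⟨y, hy⟩ := exists_comp_eq_of_pt_mem_range (𝟙 A ^ n : A ⟶ A)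
    (x : 𝟙_ (Over (Spec (CommRingCat.of k))) ⟶ A) (h1.1 _)
  refine ⟨y, ?_⟩
  rw [MonObj.comp_pow, Category.comp_id] at hy
  exact hy

variable (l : ℕ) [hl : Fact l.Prime]

theorem free_tateMod [IsAlgClosed k] [IsCommMonObj A] (hlk : (l : k) ≠ 0) (g : ℕ)
    (hg : topologicalKrullDim A.left = g) :
    Module.Free ℤ_[l] (TateMod A l (Over.mk (𝟙 (Spec (CommRingCat.of k))))) :=
  TateMod.free_of_finite (finite_torsPts A g hg l hlk)

theorem finite_tateMod [IsAlgClosed k] [IsCommMonObj A] (hlk : (l : k) ≠ 0) (g : ℕ)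
    (hg : topologicalKrullDim A.left = g) :
    Module.Finite ℤ_[l] (TateMod A l (Over.mk (𝟙 (Spec (CommRingCat.of k))))) :=
  TateMod.finite_of_finite (finite_torsPts A g hg l hlk)

theorem finrank_tateMod [IsAlgClosed k] [IsCommMonObj A] (hlk : (l : k) ≠ 0) (g : ℕ)
    (hg : topologicalKrullDim A.left = g) :
    Module.finrank ℤ_[l] (TateMod A l (Over.mk (𝟙 (Spec (CommRingCat.of k))))) = 2 * g :=
  TateMod.finrank_eq (exists_pow_eq A l hl.out.one_lt.le) _ (card_torsPts A g hg l hlk)

/-- Every `l^n`-torsion point is a component of an element of the Tate module. -/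
theorem exists_component_eq [IsAlgClosed k] [IsCommMonObj A] (n : ℕ)
    (x : Over.mk (𝟙 (Spec (CommRingCat.of k))) ⟶ A) (hx : x ^ (l ^ n) = 1) :
    ∃ y : TateMod A l (Over.mk (𝟙 (Spec (CommRingCat.of k)))),
      (y : ℕ → Additive (Over.mk (𝟙 (Spec (CommRingCat.of k))) ⟶ A)) n = Additive.ofMul x :=
  TateMod.exists_component_eq (exists_pow_eq A l hl.out.one_lt.le) n x hx

end

end K510.AVPts
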