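import Groth.Agent.AbVar.K510.TorsGen
import Groth.Agent.Sga7.H729.Closure

/-!
# Density of the `l`-power torsion points of an abelian variety
-/

set_option autoImplicit false
universe u

open CategoryTheory Limits MonoidalCategory CartesianMonoidalCategory AlgebraicGeometry
open scoped MonObj

namespace K510.Dense

open Groth.Agent.Books.AlgPts Groth.Agent.Books.AlgPtsGrp Groth.Agent

variable {k : Type u} [Field k] [IsAlgClosed k]

/-- The group of points of `l`-power order. -/
def torsSub (A : Over (Spec (CommRingCat.of k))) [GrpObj A] [IsCommMonObj A] (l : ℕ) :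
    Subgroup (𝟙_ (Over (Spec (CommRingCat.of k))) ⟶ A) where
  carrier := {x | ∃ n : ℕ, x ^ (l ^ n) = 1}
  one_mem' := ⟨0, one_pow _⟩
  mul_mem' := by
    rintro x y ⟨n, hn⟩ ⟨m, hm⟩
    refine ⟨n + m, ?_⟩
    rw [mul_pow, pow_add, pow_mul x, hn, one_pow, mul_comm (l ^ n), pow_mul y, hm, one_pow, one_mul]
  inv_mem' := by
    rintro x ⟨n, hn⟩
    exact ⟨n, by rw [inv_pow, hn, inv_one]⟩

/-- **The points of `l`-power order are dense.** -/
theorem dense (A : Over (Spec (CommRingCat.of k))) [GrpObj A] [IsCommMonObj A]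
    [IsProper A.hom] [GeometricallyIntegral A.hom] (l : ℕ) (hl : (l : k) ≠ 0) (hl2 : 2 ≤ l) :
    _root_.Dense (pt '' (torsSub A l : Set (𝟙_ (Over (Spec (CommRingCat.of k))) ⟶ A))) := by
  obtain ⟨Y, gY, i, hi, hic, -, hr, hw, -⟩ := Sga7.H729.Closure.exists_closure A (torsSub A l)
  have h1 := K510.TorsGen.surjective_of_torsion A l hl hl2 Y i (fun n x hx => hw x ⟨n, hx⟩)
  rw [dense_iff_closure_eq, ← hr]
  exact Set.range_eq_univ.2 h1.1

end K510.Dense
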