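import Groth.Agent.AbVar.K510.TangentOne
import Groth.Agent.Desc.LQF
import Groth.Agent.S1556
import Groth.Agent.Sga3C.GrpIrr
import Groth.Agent.Flat2B.SmoothGeom
import Mathlib.AlgebraicGeometry.Group.Abelian
import Mathlib.AlgebraicGeometry.ZariskisMainTheorem
import Groth.Prelude.Def_EndRing

/-!
# Sums of homomorphisms of elliptic curves
-/

set_option autoImplicit false
universe u

open CategoryTheory Limits MonoidalCategory CartesianMonoidalCategory MonObj AlgebraicGeometry

namespace K510.EllSum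

open Groth.Agent.Grpsch.AbStalk Groth.Agent.Grpsch.AbTangent Groth.Agent.Grpsch.AbEtale K510.TangentOne

variable {K : Type u} [Field K] [IsAlgClosed K]

variable {E₁ E₂ : Over (Spec (.of K))} [GrpObj E₁] [GrpObj E₂]

/-- A homomorphism between smooth groups with principal maximal ideals at the origin is étale as soon as some tangent
vector is not killed. -/
theorem etale_of_ne [Smooth E₁.hom] [Smooth E₂.hom]
    (hp₁ : (IsLocalRing.maximalIdeal (E₁.left.presheaf.stalk (pt η[E₁]))).IsPrincipal)
    (hp₂ : (IsLocalRing.maximalIdeal (E₂.left.presheaf.stalk (pt η[E₂]))).IsPrincipal)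
    (f : E₁ ⟶ E₂) [IsMonHom f] (τ₁ : specT (K := K) K ⟶ E₁) (h₁ : specT0 K ≫ τ₁ = η[E₁]) (hne : τ₁ ≫ f ≠ 1) :
    Etale f.left := by
  have hft : LocallyOfFiniteType f.left := by
    have : LocallyOfFiniteType (f.left ≫ E₂.hom) := by rw [Over.w]; infer_instance
    exact locallyOfFiniteType_of_comp _ E₂.hom
  have hfp : LocallyOfFinitePresentation f.left := by
    have : IsLocallyNoetherian E₂.left := LocallyOfFiniteType.isLocallyNoetherian E₂.hom
    rw [LocallyOfFinitePresentation.iff_locallyOfFiniteType]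
    exact hft
  have hJ : JacobsonSpace E₁.left := LocallyOfFiniteType.jacobsonSpace E₁.hom
  have hne₁ : τ₁ ≠ toUnit _ ≫ η[E₁] := by
    rintro rfl
    apply hne
    rw [Category.assoc, IsMonHom.one_hom, ← Hom.one_def]
  have hf1 : specT0 K ≫ τ₁ ≫ f = η[E₂] := by rw [reassoc_of% h₁, IsMonHom.one_hom]
  have hne₂ : τ₁ ≫ f ≠ toUnit _ ≫ η[E₂] := hne
  have a1 : (f.left.stalkMap (pt η[E₁])).hom.FormallyUnramified := by
    refine formallyUnramified_stalkMap f η[E₁] fun τ hτ hτ' => ?_
    obtain ⟨c, rfl⟩ := exists_smul η[E₁] hp₁ τ₁ τ h₁ hτ hne₁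
    rw [IsMonHom.one_hom, Category.assoc] at hτ'
    have hc : c = 0 := by
      by_contra hc
      apply hne₂
      have h2 := congr(specTmap (c⁻¹ • LinearMap.id) ≫ $hτ')
      rw [specTmap_comp_assoc] at h2
      have h3 : (c⁻¹ • LinearMap.id) ∘ₗ (c • (LinearMap.id : K →ₗ[K] K)) = LinearMap.id := by
        ext
        simp [hc]
      rw [h3, specTmap_id, Category.id_comp] at h2
      rw [h2, ← Category.assoc, toUnit_unique (_ ≫ toUnit _) (toUnit _)]
    rw [hc, zero_smul, specTmap_zero, Category.assoc, h₁]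
  have a2 : (f.left.stalkMap (pt η[E₁])).hom.FormallySmooth := by
    refine formallySmooth_stalkMap f η[E₁] fun τ' hτ' => ?_
    rw [IsMonHom.one_hom] at hτ'
    obtain ⟨c, rfl⟩ := exists_smul η[E₂] hp₂ (τ₁ ≫ f) τ' hf1 hτ' hne₂
    exact ⟨specTmap (c • LinearMap.id) ≫ τ₁, by rw [specT0_comp_assoc, h₁], by rw [Category.assoc]⟩
  have h1 : Smooth f.left := smooth_of_stalkMap _
    (stalkMap_of_origin RingHom.FormallySmooth.respectsIso f a2)
  have h2 : FormallyUnramified f.left := formallyUnramified_of_stalkMap _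
    (stalkMap_of_origin RingHom.FormallyUnramified.respectsIso f a1)
  exact etale_of_smooth_of_formallyUnramified _

omit [IsAlgClosed K] in
/-- An unramified homomorphism kills no nonzero tangent vector at the origin. -/
theorem eq_of_comp_eq_one (f : E₁ ⟶ E₂) [IsMonHom f] [FormallyUnramified f.left] [LocallyOfFiniteType f.left]
    (τ : specT (K := K) K ⟶ E₁) (h : specT0 K ≫ τ = η[E₁]) (hf : τ ≫ f = 1) : τ = toUnit _ ≫ η[E₁] := by
  have h1 : τ.left ≫ f.left = (toUnit (specT (K := K) K) ≫ η[E₁]).left ≫ f.left := by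
    rw [← Over.comp_left, ← Over.comp_left, Category.assoc, IsMonHom.one_hom, hf]
    rfl
  have h2 := Groth.Agent.Sga1.EtaleSection.isOpenImmersion_equalizer f.left _ _ h1
  have h3 : (specT0 K : 𝟙_ (Over (Spec (.of K))) ⟶ specT (K := K) K).left ≫ τ.left =
      (specT0 K : 𝟙_ (Over (Spec (.of K))) ⟶ specT (K := K) K).left ≫ (toUnit (specT (K := K) K) ≫ η[E₁]).left := by
    rw [← Over.comp_left, ← Over.comp_left, h, ← Category.assoc, toUnit_unique (specT0 K ≫ toUnit _) (𝟙 _),
      Category.id_comp]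
  let e := equalizer.lift _ h3
  have h4 : Surjective (equalizer.ι τ.left (toUnit (specT (K := K) K) ≫ η[E₁]).left) := by
    refine ⟨fun y => ⟨e (IsLocalRing.closedPoint K), ?_⟩⟩
    rw [← Scheme.Hom.comp_apply, equalizer.lift_ι]
    have hloc : ∀ z : PrimeSpectrum (TrivSqZeroExt K K), z = IsLocalRing.closedPoint _ := by
      intro z
      ext r
      refine ⟨fun hr => ?_, fun hr => ?_⟩
      · exact IsLocalRing.le_maximalIdeal z.isPrime.ne_top hr
      · have hr' : r.fst = 0 := by
          by_contra h0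
          exact hr ((TrivSqZeroExt.isUnit_iff_isUnit_fst).2 (IsUnit.mk0 _ h0))
        apply z.isPrime.mem_of_pow_mem 2
        have : r ^ 2 = 0 := by
          rw [pow_two]
          ext
          · simp [hr']
          · simp [hr']
        rw [this]
        exact zero_mem _
    exact (hloc _).trans (hloc _).symm
  have h5 : IsIso (equalizer.ι τ.left (toUnit (specT (K := K) K) ≫ η[E₁]).left) :=
    (isIso_iff_isOpenImmersion_and_surjective _).2 ⟨h2, h4⟩
  ext1
  rw [← cancel_epi (equalizer.ι τ.left (toUnit (specT (K := K) K) ≫ η[E₁]).left), equalizer.condition]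

theorem isClosed_pt {E : Over (Spec (.of K))} [LocallyOfFiniteType E.hom] (x : 𝟙_ (Over (Spec (.of K))) ⟶ E) :
    IsClosed {pt x} :=
  (pointEquivClosedPoint E.hom ⟨x.left, by simp⟩).2

/-- The local ring at the origin of an elliptic curve is a discrete valuation ring. -/
theorem isDVR (E : Over (Spec (.of K))) [GrpObj E] [IsProper E.hom] [Smooth E.hom] [IsIntegral E.left]
    (hE : topologicalKrullDim E.left = 1) : IsDiscreteValuationRing (E.left.presheaf.stalk (pt η[E])) := by
  let _ : E.left.Over (Spec (.of K)) := ⟨E.hom⟩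
  have i1 : IsSeparated (E.left ↘ (Spec (.of K))) := inferInstanceAs (IsSeparated E.hom)
  have i2 : LocallyOfFinitePresentation (E.left ↘ (Spec (.of K))) := inferInstanceAs (LocallyOfFinitePresentation E.hom)
  have i3 : QuasiCompact (E.left ↘ (Spec (.of K))) := inferInstanceAs (QuasiCompact E.hom)
  have i4 : Smooth (E.left ↘ (Spec (.of K))) := inferInstanceAs (Smooth E.hom)
  have h0 : pt η[E] ∈ (E.left ↘ (Spec (.of K))).smoothLocus := by
    rw [Scheme.Hom.smoothLocus_eq_top]; trivial
  have h1 : IsRegularLocalRing (E.left.presheaf.stalk (pt η[E])) :=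
    Groth.Agent.VarietyA.RegSmoothSch.isRegularLocalRing_stalk_of_mem_smoothLocus _ _ h0
  have h2 := Groth.Agent.VarietyA.SmoothReg.ringKrullDim_stalk_le E.left (pt η[E])
  have h3 := Groth.Agent.VarietyA.SmoothReg.not_isField_stalk_of_isClosed E.left (pt η[E]) (isClosed_pt _)
    (by rw [hE]; exact zero_lt_one)
  rw [hE] at h2
  have h4 : ringKrullDim (E.left.presheaf.stalk (pt η[E])) = 1 := by
    apply le_antisymm h2
    by_contra h5
    apply h3
    have h6 : Ring.KrullDimLE 0 (E.left.presheaf.stalk (pt η[E])) := by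
      rw [Ring.krullDimLE_iff]
      generalize ringKrullDim (E.left.presheaf.stalk (pt η[E])) = d at h5
      induction d using WithBot.recBotCoe with
      | bot => exact bot_le
      | coe d =>
        have h7 : d < 1 := by
          rw [not_le] at h5
          exact_mod_cast h5
        rw [Order.lt_one_iff] at h7
        rw [h7]
        exact le_rfl
    exact Ring.KrullDimLE.isField_of_isDomain
  exact Groth.Agent.VarietyA.SmoothReg.isDiscreteValuationRing_of_isRegularLocalRing _ h4

variable [IsProper E₁.hom] [Smooth E₁.hom] [IsIntegral E₁.left] [IsProper E₂.hom] [Smooth E₂.hom] [IsIntegral E₂.left]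

theorem etale_mul (hE₁ : topologicalKrullDim E₁.left = 1) (hE₂ : topologicalKrullDim E₂.left = 1)
    (φ φ' : E₁ ⟶ E₂) [IsMonHom φ] [IsMonHom φ'] [Etale φ.left] (hφ' : ¬ Etale φ'.left) : Etale (φ * φ').left := by
  have d₁ := isDVR E₁ hE₁
  have d₂ := isDVR E₂ hE₂
  have p₁ : (IsLocalRing.maximalIdeal (E₁.left.presheaf.stalk (pt η[E₁]))).IsPrincipal :=
    IsPrincipalIdealRing.principal _
  have p₂ : (IsLocalRing.maximalIdeal (E₂.left.presheaf.stalk (pt η[E₂]))).IsPrincipal :=
    IsPrincipalIdealRing.principal _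
  have hgi : GeometricallyIntegral E₂.hom := by
    have : GrpObj (Over.mk E₂.hom) := inferInstanceAs (GrpObj E₂)
    have := Groth.Agent.Sga3C.GrpIrr.geometricallyIrreducible_of_connectedSpace E₂.hom
    exact Groth.Agent.Flat2B.SmoothGeom.geometricallyIntegral_of_smooth E₂.hom
  have hcomm : IsCommMonObj E₂ := isCommMonObj_of_isProper_of_geometricallyIntegral E₂
  have hgi' : GeometricallyIntegral E₁.hom := by
    have : GrpObj (Over.mk E₁.hom) := inferInstanceAs (GrpObj E₁)
    have := Groth.Agent.Sga3C.GrpIrr.geometricallyIrreducible_of_connectedSpace E₁.hom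
    exact Groth.Agent.Flat2B.SmoothGeom.geometricallyIntegral_of_smooth E₁.hom
  have hcomm' : IsCommMonObj E₁ := isCommMonObj_of_isProper_of_geometricallyIntegral E₁
  have hm : IsMonHom (φ * φ') := EndAV.Hom.isMonHom_toHom (EndAV.Hom.of φ + EndAV.Hom.of φ')
  obtain ⟨τ₁, h₁, hne⟩ := exists_ne η[E₁] (IsDiscreteValuationRing.not_a_field _)
  have h2 : τ₁ ≫ φ' = 1 := by
    by_contra h
    exact hφ' (etale_of_ne p₁ p₂ φ' τ₁ h₁ h)
  refine etale_of_ne p₁ p₂ (φ * φ') τ₁ h₁ ?_
  rw [MonObj.comp_mul, h2, _root_.mul_one]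
  intro h3
  exact hne (eq_of_comp_eq_one φ τ₁ h₁ h3)

/-- Étale homomorphisms between proper integral groups are finite and surjective. -/
theorem isFinite_and_surjective (f : E₁ ⟶ E₂) [Etale f.left] : IsFinite f.left ∧ Surjective f.left := by
  have hp : IsProper f.left := by
    have h1 : IsProper (f.left ≫ E₂.hom) := by rw [Over.w]; infer_instance
    exact IsProper.of_comp _ E₂.hom
  have hq := Groth.Agent.Desc.LQF.of_etale f.left
  refine ⟨IsFinite.of_isProper_of_locallyQuasiFinite _, ⟨?_⟩⟩
  have h1 : IsClopen (Set.range f.left) := ⟨f.left.isClosedMap.isClosed_range, f.left.isOpenMap.isOpen_range⟩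
  have h2 : Set.range f.left = Set.univ := h1.eq_univ ⟨_, genericPoint E₁.left, rfl⟩
  exact Set.range_eq_univ.1 h2

end K510.EllSum
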