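import Groth.Agent.AbVar.K510.KerLemmas
import Groth.Agent.AbVar.K510.AVPts
import Groth.Agent.Flat2B.SmoothGeom
import Groth.Agent.Grpsch.AbBC
import Groth.Agent.Grpsch.MulFin

/-!
# Homomorphisms killing the `N`-torsion points factor through multiplication by `N`
-/

set_option autoImplicit false
universe u

open CategoryTheory Limits MonoidalCategory CartesianMonoidalCategory AlgebraicGeometry
open scoped MonObj

namespace K510.Factor

open K510.KerLemmas Groth.Agent

variable {k : Type u} [Field k] [IsAlgClosed k]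

/-- A homomorphism killing the `N`-torsion points factors through multiplication by `N` (`N` invertible in `k`). -/
theorem exists_desc (A : Over (Spec (CommRingCat.of k))) [GrpObj A] [IsCommMonObj A]
    [IsProper A.hom] [GeometricallyIntegral A.hom] (B : Over (Spec (CommRingCat.of k))) [GrpObj B] [IsSeparated B.hom]
    (φ : A ⟶ B) [IsMonHom φ] (N : ℕ) (hN : (N : k) ≠ 0)
    (h : ∀ x : 𝟙_ (Over (Spec (CommRingCat.of k))) ⟶ A, x ^ N = 1 → x ≫ φ = 1) :
    ∃ φ' : A ⟶ B, IsMonHom φ' ∧ (𝟙 A ^ N : A ⟶ A) ≫ φ' = φ := by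
  have hN0 : N ≠ 0 := by rintro rfl; exact hN Nat.cast_zero
  have hmon : IsMonHom (𝟙 A ^ N : A ⟶ A) := Grpsch.KerMul.isMonHom_id_pow N
  obtain ⟨F, gF, i, hi, hic, hpb⟩ := exists_closedKernel (𝟙 A ^ N : A ⟶ A)
  have het : Etale (𝟙 A ^ N : A ⟶ A).left := by
    have h1 := Grpsch.AbBC.etale_zpow A (d := (N : ℤ)) (by rwa [Int.cast_natCast])
    rwa [zpow_natCast] at h1
  have hpb' : IsPullback i.left (toUnit F).left (𝟙 A ^ N : A ⟶ A).left η[A].left := hpb.map (Over.forget _)
  have hF1 : Etale (toUnit F).left := MorphismProperty.of_isPullback (P := @Etale) hpb' het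
  have hF2 : (toUnit F).left = F.hom := by
    have := Over.w (toUnit F)
    exact (Category.comp_id _).symm.trans this
  rw [hF2] at hF1
  have hF3 : LocallyOfFiniteType F.hom := inferInstance
  have hF4 : IsReduced F.left := Flat2B.SmoothGeom.isReduced_of_smooth F.hom
  have hiφ : i ≫ φ = 1 := eq_one_of_forall_pt (i ≫ φ) fun x => by
    rw [← Category.assoc]
    refine h _ ?_
    have := ker_comp hpb x
    rwa [MonObj.comp_pow, Category.comp_id] at this
  have hflat : Flat (𝟙 A ^ N : A ⟶ A).left := inferInstance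
  have hsurj : Surjective (𝟙 A ^ N : A ⟶ A).left := Grpsch.MulFin.surjective_pow A N (Nat.pos_of_ne_zero hN0)
  have hfp : LocallyOfFinitePresentation (𝟙 A ^ N : A ⟶ A).left := inferInstance
  exact exists_desc_hom i (𝟙 A ^ N : A ⟶ A) hpb φ hiφ

end K510.Factor
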