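import Groth.Agent.Books.AlgPtsGrp
import Groth.Agent.Grpsch.KerMul
import Groth.Agent.Sga3C.QuotProps
import Groth.Prelude.Def_AlgGrp

/-!
# Kernels, descent of homomorphisms, homomorphisms trivial on points
-/

set_option autoImplicit false
universe u

open CategoryTheory Limits MonoidalCategory CartesianMonoidalCategory AlgebraicGeometry
open scoped MonObj

namespace K510.KerLemmas

open Groth.Agent.Books.AlgPts Groth.Agent.Books.AlgPtsGrp Groth.Agent

section general

variable {S : Scheme.{u}}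

/-- The unit section of a separated group scheme is a closed immersion. -/
theorem isClosedImmersion_one (B : Over S) [GrpObj B] [IsSeparated B.hom] :
    IsClosedImmersion (η[B] : 𝟙_ (Over S) ⟶ B).left := by
  have h4 : IsClosedImmersion ((η[B] : 𝟙_ (Over S) ⟶ B).left ≫ B.hom) := by
    rw [Over.w]
    change IsClosedImmersion (𝟙 S)
    infer_instance
  exact IsClosedImmersion.of_comp _ B.hom

/-- The kernel of a homomorphism to a separated group scheme as a closed subgroup. -/
theorem exists_closedKernel {A B : Over S} [GrpObj A] [GrpObj B] [IsSeparated B.hom]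
    (f : A ⟶ B) [IsMonHom f] :
    ∃ (F : Over S) (_ : GrpObj F) (i : F ⟶ A), IsMonHom i ∧ IsClosedImmersion i.left ∧
      IsPullback i (toUnit F) f η[B] := by
  obtain ⟨F, gF, i, hi, hpb⟩ := Grpsch.KerMul.exists_kernel f
  refine ⟨F, gF, i, hi, ?_, hpb⟩
  have h1 : IsPullback i.left (toUnit F).left f.left η[B].left := hpb.map (Over.forget S)
  exact MorphismProperty.of_isPullback (P := @IsClosedImmersion) h1.flip (isClosedImmersion_one B)

/-- A point killed by `f` lifts to the kernel. -/
theorem exists_lift_ker {A B F T : Over S} [GrpObj B] {i : F ⟶ A} {f : A ⟶ B}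
    (h : IsPullback i (toUnit F) f η[B]) (x : T ⟶ A) (hx : x ≫ f = 1) : ∃ y : T ⟶ F, y ≫ i = x := by
  refine ⟨h.lift x (toUnit T) ?_, h.lift_fst _ _ _⟩
  rw [hx, Hom.one_def]

theorem ker_comp {A B F T : Over S} [GrpObj B] {i : F ⟶ A} {f : A ⟶ B}
    (h : IsPullback i (toUnit F) f η[B]) (y : T ⟶ F) : (y ≫ i) ≫ f = 1 := by
  rw [Category.assoc, h.w, ← Category.assoc, Hom.one_def]
  congr 1
  exact toUnit_unique _ _

/-- Homomorphisms descend along faithfully flat homomorphisms. -/
theorem exists_desc_hom {L G Q P : Over S} [GrpObj G] [GrpObj Q] [GrpObj P] (l : L ⟶ G) (q : G ⟶ Q)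
    [IsMonHom q] [Flat q.left] [Surjective q.left] [LocallyOfFinitePresentation q.left]
    (h : IsPullback l (toUnit L) q η[Q]) (φ : G ⟶ P) [IsMonHom φ] (hφ : l ≫ φ = 1) :
    ∃ ψ : Q ⟶ P, IsMonHom ψ ∧ q ≫ ψ = φ := by
  obtain ⟨ψ, hψ⟩ := Sga3C.QuotProps.exists_desc q φ (fun T x y hxy => by
    obtain ⟨z, hz⟩ := exists_lift_ker h (x * y⁻¹) (by
      rw [MonObj.mul_comp, GrpObj.inv_comp, hxy, mul_inv_cancel])
    have h1 : (x * y⁻¹) ≫ φ = 1 := by
      rw [← hz, Category.assoc, hφ, MonObj.comp_one]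
    rw [MonObj.mul_comp, GrpObj.inv_comp] at h1
    exact mul_inv_eq_one.mp h1)
  refine ⟨ψ, ⟨?_, ?_⟩, hψ⟩
  · rw [← IsMonHom.one_hom q, Category.assoc, hψ, IsMonHom.one_hom]
  · have f2 : Flat (q ⊗ₘ q).left := Sga3C.QuotProps.tensorHom_left_of (@Flat) q q ‹_› ‹_›
    have s2 : Surjective (q ⊗ₘ q).left := Sga3C.QuotProps.tensorHom_left_of (@Surjective) q q ‹_› ‹_›
    have := Sga3C.QuotProps.epi_of_flat_surjective (q ⊗ₘ q)
    rw [← cancel_epi (q ⊗ₘ q), ← Category.assoc, ← IsMonHom.mul_hom q, Category.assoc, hψ,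
      IsMonHom.mul_hom, ← Category.assoc, tensorHom_comp_tensorHom, hψ]

end general

section closed

variable {k : Type u} [Field k] [IsAlgClosed k]

/-- A morphism from a reduced scheme to a separated group scheme which is trivial on rational points is trivial. -/
theorem eq_one_of_forall_pt {T B : Over (Spec (CommRingCat.of k))} [LocallyOfFiniteType T.hom] [IsReduced T.left]
    [GrpObj B] [IsSeparated B.hom] (f : T ⟶ B)
    (h : ∀ x : 𝟙_ (Over (Spec (CommRingCat.of k))) ⟶ T, x ≫ f = 1) : f = 1 := by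
  have hc := isClosedImmersion_one B
  obtain ⟨s, hs⟩ := exists_lift η[B] f (range_subset_of_forall_pt f
    (η[B] : 𝟙_ (Over (Spec (CommRingCat.of k))) ⟶ B).left.isClosedEmbedding.isClosed_range (fun x => by
      rw [h x, Hom.one_def, toUnit_unique (toUnit _) (𝟙 _), Category.id_comp]
      exact ⟨_, rfl⟩))
  rw [← hs, toUnit_unique s (toUnit T)]
  rfl

/-- Two morphisms from a reduced scheme to a separated group scheme which agree on rational points are equal. -/
theorem ext_of_forall_pt {T B : Over (Spec (CommRingCat.of k))} [LocallyOfFiniteType T.hom] [IsReduced T.left]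
    [GrpObj B] [IsSeparated B.hom] (f g : T ⟶ B)
    (h : ∀ x : 𝟙_ (Over (Spec (CommRingCat.of k))) ⟶ T, x ≫ f = x ≫ g) : f = g := by
  have h1 : f * g⁻¹ = 1 := eq_one_of_forall_pt _ fun x => by
    rw [MonObj.comp_mul, GrpObj.comp_inv, h x, mul_inv_cancel]
  exact mul_inv_eq_one.1 h1

end closed

end K510.KerLemmas
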