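import Groth.Agent.Grpsch.AbEtale
import Groth.Agent.Sga1.EtaleSection
import Mathlib.RingTheory.DiscreteValuationRing.Basic

/-!
# Tangent vectors of one-dimensional smooth groups
-/

set_option autoImplicit false
universe u

open CategoryTheory Limits MonoidalCategory CartesianMonoidalCategory MonObj AlgebraicGeometry

namespace K510.TangentOne

open Groth.Agent.Grpsch.AbStalk Groth.Agent.Grpsch.AbTangent Groth.Agent.Grpsch.AbEtale

variable {K : Type u} [Field K]

theorem ev_eq_zero_iff {X : Over (Spec (.of K))} (x : 𝟙_ (Over (Spec (.of K))) ⟶ X)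
    (y : X.left.presheaf.stalk (pt x)) :
    (ev x).hom y = 0 ↔ y ∈ IsLocalRing.maximalIdeal (X.left.presheaf.stalk (pt x)) := by
  have h1 : IsLocalHom (ev x).hom := inferInstanceAs (IsLocalHom (Scheme.stalkClosedPointTo (R := .of K) x.left).hom)
  rw [IsLocalRing.mem_maximalIdeal, mem_nonunits_iff, ← isUnit_map_iff (ev x).hom, isUnit_iff_ne_zero, not_not]

/-- If the maximal ideal at a rational point is principal, all tangent vectors are multiples of a nonzero one. -/
theorem exists_smul {X : Over (Spec (.of K))} (x : 𝟙_ (Over (Spec (.of K))) ⟶ X)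
    (hp : (IsLocalRing.maximalIdeal (X.left.presheaf.stalk (pt x))).IsPrincipal)
    (τ₀ τ : specT (K := K) K ⟶ X) (h₀ : specT0 K ≫ τ₀ = x) (h : specT0 K ≫ τ = x) (hne : τ₀ ≠ toUnit _ ≫ x) :
    ∃ c : K, τ = specTmap (c • (LinearMap.id : K →ₗ[K] K)) ≫ τ₀ := by
  obtain ⟨g₀, hg₀, hf₀, rfl⟩ := exists_ofStalk x τ₀ h₀
  obtain ⟨g, hg, hf, rfl⟩ := exists_ofStalk x τ h
  obtain ⟨⟨π, hπ⟩⟩ := hp
  have hπ' : (ev x).hom π = 0 := (ev_eq_zero_iff x π).2 (by rw [hπ]; exact Submodule.mem_span_singleton_self π)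
  have e0 : ∀ y, (g₀.hom y).fst = (ev x).hom y := fun y => congr(($hf₀).hom y)
  have e1 : ∀ y, (g.hom y).fst = (ev x).hom y := fun y => congr(($hf).hom y)
  have s0 : ∀ r : K, g₀.hom ((kAlg X.hom (pt x)).hom r) = algebraMap K (TrivSqZeroExt K K) r :=
    fun r => congr(($hg₀).hom r)
  have s1 : ∀ r : K, g.hom ((kAlg X.hom (pt x)).hom r) = algebraMap K (TrivSqZeroExt K K) r :=
    fun r => congr(($hg).hom r)
  have hdec : ∀ y, ∃ z, y = (kAlg X.hom (pt x)).hom ((ev x).hom y) + π * z := by
    intro y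
    have h1 : y - (kAlg X.hom (pt x)).hom ((ev x).hom y) ∈
        IsLocalRing.maximalIdeal (X.left.presheaf.stalk (pt x)) := by
      rw [← ev_eq_zero_iff, map_sub]
      have h2 : (ev x).hom ((kAlg X.hom (pt x)).hom ((ev x).hom y)) = (ev x).hom y :=
        congr(($(kAlg_ev x)).hom ((ev x).hom y))
      rw [h2, sub_self]
    rw [hπ] at h1
    obtain ⟨z, hz⟩ := Ideal.mem_span_singleton'.1 h1
    exact ⟨z, by rw [mul_comm, hz]; ring⟩
  have key : ∀ (g' : X.left.presheaf.stalk (pt x) ⟶ CommRingCat.of (TrivSqZeroExt K K))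
      (_ : ∀ y, (g'.hom y).fst = (ev x).hom y)
      (_ : ∀ r : K, g'.hom ((kAlg X.hom (pt x)).hom r) = algebraMap K (TrivSqZeroExt K K) r)
      (y z : X.left.presheaf.stalk (pt x)), y = (kAlg X.hom (pt x)).hom ((ev x).hom y) + π * z →
      (g'.hom y).snd = (ev x).hom z * (g'.hom π).snd := by
    intro g' e' s' y z hyz
    have h1 := congrArg (fun w => (g'.hom w).snd) hyz
    simp only at h1
    rw [h1, map_add, s', map_mul, TrivSqZeroExt.snd_add, TrivSqZeroExt.snd_mul, e' π, hπ', zero_smul, zero_add, e' z,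
      TrivSqZeroExt.algebraMap_eq_inl]
    simp [mul_comm]
  have ha₀ : (g₀.hom π).snd ≠ 0 := by
    intro h0
    apply hne
    ext1
    rw [ofStalk_left, toUnit_comp_left]
    congr 2
    ext y
    · change (g₀.hom y).fst = (algebraMap K (TrivSqZeroExt K K) ((ev x).hom y)).fst
      rw [e0]
      rfl
    · change (g₀.hom y).snd = (algebraMap K (TrivSqZeroExt K K) ((ev x).hom y)).snd
      obtain ⟨z, hz⟩ := hdec y
      rw [key g₀ e0 s0 y z hz, h0, mul_zero]
      rfl
  refine ⟨(g.hom π).snd / (g₀.hom π).snd, ?_⟩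
  ext1
  rw [ofStalk_left, Over.comp_left, specTmap_left, ofStalk_left, ← Spec.map_comp_assoc]
  congr 2
  ext y
  · change (g.hom y).fst = (TrivSqZeroExt.map _ (g₀.hom y)).fst
    rw [e1, TrivSqZeroExt.fst_map, e0]
  · change (g.hom y).snd = (TrivSqZeroExt.map _ (g₀.hom y)).snd
    obtain ⟨z, hz⟩ := hdec y
    rw [TrivSqZeroExt.snd_map, key g₀ e0 s0 y z hz, key g e1 s1 y z hz, LinearMap.smul_apply, LinearMap.id_apply,
      smul_eq_mul, div_mul_eq_mul_div, eq_div_iff ha₀]
    ring

theorem isField_stalk' (y : PrimeSpectrum K) : IsField ((Spec.structureSheaf K).presheaf.stalk y) := by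
  have hI : IsLocalization.AtPrime ((Spec.structureSheaf K).presheaf.stalk y) y.asIdeal := inferInstance
  have e : K ≃ₐ[K] ((Spec.structureSheaf K).presheaf.stalk y) :=
    IsLocalization.atUnits K y.asIdeal.primeCompl (fun a ha => by
      refine (IsUnit.mk0 a ?_)
      rintro rfl
      exact ha (zero_mem _))
  exact e.symm.toMulEquiv.isField (Field.toIsField K)

/-- The stalks of the spectrum of a field are fields. -/
theorem isField_stalk (y : (Spec (.of K) : Scheme.{u})) : IsField ((Spec (.of K)).presheaf.stalk y) :=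
  isField_stalk' y

/-- If the maximal ideal at a rational point is nonzero, there is a nonzero tangent vector. -/
theorem exists_ne {X : Over (Spec (.of K))} [LocallyOfFiniteType X.hom] (x : 𝟙_ (Over (Spec (.of K))) ⟶ X)
    (hp : IsLocalRing.maximalIdeal (X.left.presheaf.stalk (pt x)) ≠ ⊥) :
    ∃ τ : specT (K := K) K ⟶ X, specT0 K ≫ τ = x ∧ τ ≠ toUnit _ ≫ x := by
  by_contra hcon
  push Not at hcon
  apply hp
  have hl : (toUnit X).left = X.hom := (Category.comp_id _).symm.trans (Over.w (toUnit X))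
  have hft : LocallyOfFiniteType (toUnit X).left := by rw [hl]; infer_instance
  have h1 := formallyUnramified_stalkMap (toUnit X) x (fun τ hτ _ => hcon τ hτ)
  let R := (𝟙_ (Over (Spec (.of K)))).left.presheaf.stalk ((toUnit X).left (pt x))
  let S := X.left.presheaf.stalk (pt x)
  let _ : Algebra R S := ((toUnit X).left.stalkMap (pt x)).hom.toAlgebra
  have hess : (algebraMap R S).EssFiniteType := LocallyOfFiniteType.stalkMap (toUnit X).left (pt x)
  have : Algebra.EssFiniteType R S := hess
  have : Algebra.FormallyUnramified R S := h1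
  have hloc : IsLocalHom (algebraMap R S) := inferInstanceAs (IsLocalHom ((toUnit X).left.stalkMap (pt x)).hom)
  have h2 := Algebra.FormallyUnramified.map_maximalIdeal (R := R) (S := S)
  have hF : IsField R := isField_stalk _
  have h3 : IsLocalRing.maximalIdeal R = ⊥ := IsLocalRing.isField_iff_maximalIdeal_eq.1 hF
  rw [h3, Ideal.map_bot] at h2
  exact h2.symm

end K510.TangentOne
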