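import Groth.Prelude.Def_AbDual
import Mathlib.RingTheory.AdicCompletion.Functoriality
import Mathlib.NumberTheory.Padics.RingHoms
import Mathlib.LinearAlgebra.FreeModule.PID
import Mathlib.LinearAlgebra.FreeModule.Finite.Matrix
import Mathlib.LinearAlgebra.Dimension.Finrank

/-!
# The Tate module of a commutative group scheme: algebraic properties

`A` a commutative group object over `S`, `T` an `S`-scheme, `P = Hom(T, A)`.  Everything here is formal in the
group `P`.
-/

set_option autoImplicit false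
universe u

open CategoryTheory CategoryTheory.Limits AlgebraicGeometry MonObj MonoidalCategory CartesianMonoidalCategory

namespace K510.TateMod

open AbDual

variable {S : Scheme.{u}} {A : Over S} [GrpObj A] [IsCommMonObj A] {l : ℕ} {T : Over S}

/-- the value of a multiple -/
theorem nsmul_val (n : ℕ) (x : TateMod A l T) (m : ℕ) :
    ((n • x : TateMod A l T) : ℕ → Additive (T ⟶ A)) m = n • (x : ℕ → Additive (T ⟶ A)) m := rfl

theorem compat_iter (x : TateMod A l T) (n m : ℕ) :
    (l ^ n) • (x : ℕ → Additive (T ⟶ A)) (m + n) = (x : ℕ → Additive (T ⟶ A)) m := by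
  induction n with
  | zero => rw [pow_zero, one_nsmul]; rfl
  | succ n ih =>
    rw [pow_succ, mul_nsmul', ← add_assoc, x.compat, ih]

/-- An element whose `n`-th component vanishes is divisible by `l ^ n`. -/
theorem exists_nsmul_eq (x : TateMod A l T) (n : ℕ) (h : (x : ℕ → Additive (T ⟶ A)) n = 0) :
    ∃ y : TateMod A l T, (l ^ n) • y = x := by
  refine ⟨⟨fun m => (x : ℕ → Additive (T ⟶ A)) (m + n), ?_, ?_⟩, ?_⟩
  · intro m
    have h1 := compat_iter x m n
    rw [add_comm n m, h] at h1
    exact h1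
  · intro m
    have h1 := x.compat (m + n)
    change l • (x : ℕ → Additive (T ⟶ A)) (m + 1 + n) = _
    rw [show m + 1 + n = m + n + 1 by omega]
    exact h1
  · refine TateMod.ext fun m => ?_
    rw [nsmul_val]
    exact compat_iter x n m

theorem component_zero (x : TateMod A l T) : (x : ℕ → Additive (T ⟶ A)) 0 = 0 := by
  have := x.torsion 0
  rwa [pow_zero, one_nsmul] at this

theorem eq_zero_of_nsmul (n : ℕ) (x : TateMod A l T) (h : (l ^ n) • x = 0) : x = 0 := by
  refine TateMod.ext fun m => ?_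
  have h1 := nsmul_val (l ^ n) x (m + n)
  rw [h, compat_iter] at h1
  exact h1.symm

variable [hl : Fact l.Prime]

theorem natCast_smul (n : ℕ) (x : TateMod A l T) : (n : ℤ_[l]) • x = n • x := Nat.cast_smul_eq_nsmul _ _ _

theorem pow_smul (n : ℕ) (x : TateMod A l T) : ((l : ℤ_[l]) ^ n) • x = (l ^ n) • x := by
  rw [← Nat.cast_pow, natCast_smul]

theorem eq_zero_of_pow_smul (n : ℕ) (x : TateMod A l T) (h : ((l : ℤ_[l]) ^ n) • x = 0) : x = 0 :=
  eq_zero_of_nsmul n x (by rw [← pow_smul, h])

theorem exists_pow_smul_eq (x : TateMod A l T) (n : ℕ) (h : (x : ℕ → Additive (T ⟶ A)) n = 0) :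
    ∃ y : TateMod A l T, ((l : ℤ_[l]) ^ n) • y = x := by
  obtain ⟨y, hy⟩ := exists_nsmul_eq x n h
  exact ⟨y, by rw [pow_smul, hy]⟩

theorem val_eq_zero_iff (x : TateMod A l T) (n : ℕ) :
    (x : ℕ → Additive (T ⟶ A)) n = 0 ↔ ∃ y : TateMod A l T, ((l : ℤ_[l]) ^ n) • y = x := by
  refine ⟨exists_pow_smul_eq x n, ?_⟩
  rintro ⟨y, rfl⟩
  rw [pow_smul, nsmul_val]
  exact y.torsion n

instance isTorsionFree : Module.IsTorsionFree ℤ_[l] (TateMod A l T) := by
  refine ⟨fun r hr x y hxy => ?_⟩
  have hr0 : r ≠ 0 := hr.ne_zero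
  have h0 : r • (x - y) = 0 := by
    rw [smul_sub]
    exact sub_eq_zero.mpr hxy
  have h2 := PadicInt.unitCoeff_spec hr0
  rw [h2, mul_smul] at h0
  have h3 : (l : ℤ_[l]) ^ r.valuation • (x - y) = 0 := by
    have h4 : (PadicInt.unitCoeff hr0)⁻¹ • ((PadicInt.unitCoeff hr0) •
        ((l : ℤ_[l]) ^ r.valuation • (x - y))) = 0 := by
      rw [Units.smul_def (PadicInt.unitCoeff hr0), h0, smul_zero]
    rwa [inv_smul_smul] at h4
  exact sub_eq_zero.mp (eq_zero_of_pow_smul _ _ h3)

omit hl in
/-- The component maps are surjective if `P` is divisible by `l`. -/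
theorem exists_component_eq (hdiv : ∀ x : T ⟶ A, ∃ y : T ⟶ A, y ^ l = x) (n : ℕ) (x : T ⟶ A)
    (hx : x ^ (l ^ n) = 1) : ∃ y : TateMod A l T, (y : ℕ → Additive (T ⟶ A)) n = Additive.ofMul x := by
  choose d hd using hdiv
  -- the sequence `x_m = l^(n-m) x` for `m ≤ n` and successive roots afterwards
  let z : ℕ → (T ⟶ A) := fun m => d^[m] x
  have hz : ∀ m, (z (m + 1)) ^ l = z m := by
    intro m
    change (d^[m + 1] x) ^ l = _
    rw [Function.iterate_succ_apply', hd]
  have hz' : ∀ m, (z m) ^ (l ^ m) = x := by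
    intro m
    induction m with
    | zero => rw [pow_zero, pow_one]; rfl
    | succ m ih => rw [pow_succ', pow_mul, hz, ih]
  let w : ℕ → (T ⟶ A) := fun m => (z m) ^ (l ^ n)
  have hw : ∀ m, (w (m + 1)) ^ l = w m := by
    intro m
    change ((z (m + 1)) ^ (l ^ n)) ^ l = (z m) ^ (l ^ n)
    rw [← hz m, ← pow_mul, ← pow_mul, mul_comm]
  refine ⟨⟨fun m => Additive.ofMul (w m), ?_, ?_⟩, ?_⟩
  · intro m
    change Additive.ofMul ((w m) ^ (l ^ m)) = 0
    change (w m) ^ (l ^ m) = 1
    change ((z m) ^ (l ^ n)) ^ (l ^ m) = 1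
    rw [← pow_mul, mul_comm, pow_mul, hz', hx]
  · intro m
    exact congrArg Additive.ofMul (hw m)
  · change Additive.ofMul ((z n) ^ (l ^ n)) = Additive.ofMul x
    rw [hz']

/-- membership in `l^n M` -/
theorem mem_smul_top (n : ℕ) {M : Type*} [AddCommGroup M] [Module ℤ_[l] M] (x : M) :
    x ∈ (Ideal.span {(l : ℤ_[l])} ^ n • (⊤ : Submodule ℤ_[l] M)) ↔ ∃ y : M, ((l : ℤ_[l]) ^ n) • y = x := by
  rw [Ideal.span_singleton_pow, Submodule.ideal_span_singleton_smul, Submodule.mem_smul_pointwise_iff_exists]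
  exact ⟨fun ⟨y, _, h⟩ => ⟨y, h⟩, fun ⟨y, h⟩ => ⟨y, trivial, h⟩⟩

theorem isHausdorff : IsHausdorff (Ideal.span {(l : ℤ_[l])}) (TateMod A l T) := by
  refine ⟨fun x hx => TateMod.ext fun n => ?_⟩
  have h1 := hx n
  rw [SModEq.zero, mem_smul_top] at h1
  exact (val_eq_zero_iff x n).2 h1

theorem isPrecomplete_pi (d : ℕ) : IsPrecomplete (Ideal.span {(l : ℤ_[l])}) (Fin d → ℤ_[l]) := by
  have h0 : IsPrecomplete (Ideal.span {(l : ℤ_[l])}) ℤ_[l] := by
    rw [← PadicInt.maximalIdeal_eq_span_p]
    infer_instance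
  refine ⟨fun f hf => ?_⟩
  have h1 : ∀ i, ∃ L : ℤ_[l], ∀ n, f n i ≡ L [SMOD (Ideal.span {(l : ℤ_[l])} ^ n • ⊤ : Submodule ℤ_[l] ℤ_[l])] := by
    intro i
    refine h0.prec fun {m n} hmn => ?_
    have h2 := hf hmn
    rw [SModEq.sub_mem, mem_smul_top] at h2 ⊢
    obtain ⟨y, hy⟩ := h2
    exact ⟨y i, by rw [← Pi.smul_apply, hy, Pi.sub_apply]⟩
  choose L hL using h1
  refine ⟨L, fun n => ?_⟩
  rw [SModEq.sub_mem, mem_smul_top]
  have h2 : ∀ i, ∃ y, ((l : ℤ_[l]) ^ n) • y = f n i - L i := by
    intro i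
    have := hL i n
    rwa [SModEq.sub_mem, mem_smul_top] at this
  choose y hy using h2
  exact ⟨y, funext fun i => hy i⟩

theorem finite_of_finite (hfin : Finite (torsPts A l T)) : Module.Finite ℤ_[l] (TateMod A l T) := by
  classical
  -- choose representatives of the images of the first component
  let c : TateMod A l T → torsPts A l T := fun x => ⟨(TateMod.component A l T 1 x).toMul, by
    have := TateMod.component_mem x 1
    rwa [pow_one] at this⟩
  obtain ⟨d, ⟨e⟩⟩ := Finite.exists_equiv_fin (Set.range c)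
  choose r hr using fun y : Set.range c => y.2
  let f : (Fin d → ℤ_[l]) →ₗ[ℤ_[l]] TateMod A l T :=
    Fintype.linearCombination ℤ_[l] (fun i => r (e.symm i))
  have h1 := isPrecomplete_pi (l := l) d
  have h2 := isHausdorff (A := A) (l := l) (T := T)
  have hf : Function.Surjective f := by
    apply surjective_of_mkQ_comp_surjective (I := Ideal.span {(l : ℤ_[l])})
    intro y
    obtain ⟨x, rfl⟩ := Submodule.mkQ_surjective _ y
    refine ⟨Pi.single (e ⟨c x, x, rfl⟩) 1, ?_⟩
    rw [LinearMap.comp_apply, ← sub_eq_zero, ← map_sub, Submodule.mkQ_apply, Submodule.Quotient.mk_eq_zero]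
    have h3 : f (Pi.single (e ⟨c x, x, rfl⟩) 1) = r ⟨c x, x, rfl⟩ := by
      rw [Fintype.linearCombination_apply_single, one_smul, Equiv.symm_apply_apply]
    rw [h3]
    have h4 := hr ⟨c x, x, rfl⟩
    have h5 := (mem_smul_top (l := l) 1 (r ⟨c x, x, rfl⟩ - x)).2 (by
      apply (val_eq_zero_iff _ 1).1
      have h6 : (TateMod.component A l T 1 (r ⟨c x, x, rfl⟩)) = (TateMod.component A l T 1 x) :=
        congrArg (fun z : torsPts A l T => Additive.ofMul z.1) h4
      change TateMod.component A l T 1 (r ⟨c x, x, rfl⟩ - x) = 0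
      rw [map_sub, h6, sub_self])
    rwa [pow_one] at h5
  exact Module.Finite.of_surjective f hf

theorem free_of_finite (hfin : Finite (torsPts A l T)) : Module.Free ℤ_[l] (TateMod A l T) := by
  have := finite_of_finite hfin
  infer_instance

/-- For a free module of rank `r`, `M / l^n M` has `l^(n r)` elements. -/
theorem card_quotient (M : Type*) [AddCommGroup M] [Module ℤ_[l] M] [Module.Free ℤ_[l] M] [Module.Finite ℤ_[l] M]
    (n : ℕ) {Q : Type*} [AddCommGroup Q] (q : M →+ Q) (hq : Function.Surjective q)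
    (hker : ∀ x, q x = 0 ↔ ∃ y : M, ((l : ℤ_[l]) ^ n) • y = x) :
    Nat.card Q = (l ^ n) ^ (Module.finrank ℤ_[l] M) := by
  let b := Module.finBasis ℤ_[l] M
  let φ : M →+ (Fin (Module.finrank ℤ_[l] M) → ZMod (l ^ n)) :=
    { toFun := fun x i => PadicInt.toZModPow n (b.repr x i)
      map_zero' := by ext i; simp
      map_add' := fun x y => by ext i; simp }
  have hφ : Function.Surjective φ := by
    intro v
    have : ∀ i, ∃ a : ℤ_[l], PadicInt.toZModPow n a = v i := by
      intro i
      obtain ⟨m, hm⟩ := ZMod.natCast_zmod_surjective (n := l ^ n) (v i)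
      exact ⟨m, by rw [map_natCast, hm]⟩
    choose a ha using this
    refine ⟨b.equivFun.symm a, funext fun i => ?_⟩
    change PadicInt.toZModPow n (b.repr (b.equivFun.symm a) i) = v i
    rw [← b.equivFun_apply, LinearEquiv.apply_symm_apply, ha]
  have hφker : ∀ x, φ x = 0 ↔ ∃ y : M, ((l : ℤ_[l]) ^ n) • y = x := by
    intro x
    constructor
    · intro h
      have : ∀ i, ∃ a : ℤ_[l], b.repr x i = (l : ℤ_[l]) ^ n * a := by
        intro i
        have h1 : PadicInt.toZModPow n (b.repr x i) = 0 := congrFun h i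
        rw [← RingHom.mem_ker, PadicInt.ker_toZModPow, Ideal.mem_span_singleton'] at h1
        obtain ⟨a, ha⟩ := h1
        exact ⟨a, by rw [← ha, mul_comm]⟩
      choose a ha using this
      refine ⟨b.equivFun.symm a, b.repr.injective ?_⟩
      ext i
      rw [map_smul, Finsupp.smul_apply, ← b.equivFun_apply, LinearEquiv.apply_symm_apply, smul_eq_mul, ha]
    · rintro ⟨y, rfl⟩
      ext i
      change PadicInt.toZModPow n (b.repr _ i) = 0
      rw [map_smul, Finsupp.smul_apply, smul_eq_mul, ← RingHom.mem_ker, PadicInt.ker_toZModPow,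
        Ideal.mem_span_singleton]
      exact ⟨_, rfl⟩
  have hk : q.ker = φ.ker := by
    ext x
    rw [AddMonoidHom.mem_ker, AddMonoidHom.mem_ker, hker, hφker]
  have e1 : Q ≃ M ⧸ q.ker := (QuotientAddGroup.quotientKerEquivOfSurjective q hq).symm.toEquiv
  have e2 : M ⧸ φ.ker ≃ (Fin (Module.finrank ℤ_[l] M) → ZMod (l ^ n)) :=
    (QuotientAddGroup.quotientKerEquivOfSurjective φ hφ).toEquiv
  rw [Nat.card_congr e1, hk, Nat.card_congr e2, Nat.card_pi]
  simp

/-- The rank of the Tate module. -/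
theorem finrank_eq (hdiv : ∀ x : T ⟶ A, ∃ y : T ⟶ A, y ^ l = x) (d : ℕ)
    (hcard : Nat.card (torsPts A l T) = l ^ d) : Module.finrank ℤ_[l] (TateMod A l T) = d := by
  have hfin : Finite (torsPts A l T) := Nat.finite_of_card_ne_zero (by
    rw [hcard]; exact pow_ne_zero _ hl.out.ne_zero)
  have := finite_of_finite hfin
  have := free_of_finite hfin
  let q : TateMod A l T →+ Additive (torsPts A l T) :=
    { toFun := fun x => Additive.ofMul ⟨(TateMod.component A l T 1 x).toMul, by
        have := TateMod.component_mem x 1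
        rwa [pow_one] at this⟩
      map_zero' := rfl
      map_add' := fun x y => rfl }
  have hq : Function.Surjective q := by
    intro x
    obtain ⟨y, hy⟩ := exists_component_eq hdiv 1 x.toMul.1 (by
      rw [pow_one]; exact x.toMul.2)
    exact ⟨y, Subtype.ext hy⟩
  have h1 := card_quotient (l := l) (TateMod A l T) 1 q hq (by
    intro x
    rw [← val_eq_zero_iff]
    constructor
    · intro h
      exact congrArg (fun z : Additive (torsPts A l T) => Additive.ofMul z.toMul.1) h
    · intro h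
      exact Subtype.ext h)
  have h2 : Nat.card (Additive (torsPts A l T)) = Nat.card (torsPts A l T) := rfl
  rw [h2, hcard, pow_one] at h1
  exact (Nat.pow_right_injective hl.out.two_le h1).symm

end K510.TateMod
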