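import Groth.Agent.AbVar.K510.KerLemmas
import Groth.Agent.Etcore.AbTors
import Groth.Agent.Sga3B.RedIdComp
import Groth.Agent.Sga3C.GrpIrr
import Groth.Agent.Flat2B.SmoothGeom
import Groth.Agent.Sga7.H620.Growth
import Groth.Agent.Fga.DimLt
import Groth.Agent.VarietyB.DimSch
import Groth.Agent.Grpsch.KerMul

/-!
# A closed subgroup of an abelian variety containing the `l`-power torsion is everything
-/

set_option autoImplicit false
universe u

open CategoryTheory Limits MonoidalCategory CartesianMonoidalCategory AlgebraicGeometry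
open scoped MonObj

namespace K510.TorsGen

open Groth.Agent.Books.AlgPts Groth.Agent.Books.AlgPtsGrp Groth.Agent.Sga7.H620.Growth Groth.Agent

/-- The map on points induced by a homomorphism. -/
@[simps] noncomputable def ptsMap {S : Scheme.{u}} {T G H : Over S} [GrpObj G] [GrpObj H] (f : G ⟶ H) [IsMonHom f] :
    (T ⟶ G) →* (T ⟶ H) where
  toFun x := x ≫ f
  map_one' := MonObj.one_comp f
  map_mul' x y := MonObj.mul_comp x y f

theorem isCommMonObj_of_mono {S : Scheme.{u}} {F G : Over S} [GrpObj F] [GrpObj G] [IsCommMonObj G]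
    (i : F ⟶ G) [IsMonHom i] [Mono i] : IsCommMonObj F := by
  constructor
  rw [← cancel_mono i, Category.assoc, IsMonHom.mul_hom, ← Category.assoc, ← BraidedCategory.braiding_naturality,
    Category.assoc, IsCommMonObj.mul_comm]

variable {k : Type u} [Field k]

theorem geometricallyIntegral_of_smooth_connected (G : Over (Spec (CommRingCat.of k))) [GrpObj G] [Smooth G.hom]
    [ConnectedSpace G.left] : GeometricallyIntegral G.hom := by
  have : GrpObj (Over.mk G.hom) := inferInstanceAs (GrpObj G)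
  have := Sga3C.GrpIrr.geometricallyIrreducible_of_connectedSpace G.hom
  exact Flat2B.SmoothGeom.geometricallyIntegral_of_smooth G.hom

/-- A closed immersion of the same finite dimension into an irreducible scheme is surjective. -/
theorem range_eq_univ {X Y : Scheme.{u}} [IrreducibleSpace Y] (f : X ⟶ Y) [IsClosedImmersion f] (n : ℕ)
    (hX : topologicalKrullDim X = n) (hY : topologicalKrullDim Y = n) : Set.range f = Set.univ := by
  by_contra hne
  have hcl : IsClosed (Set.range f) := f.isClosedEmbedding.isClosed_range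
  have h1 : topologicalKrullDim (Set.range f) = n := by
    rw [← hX]
    exact (IsHomeomorph.topologicalKrullDim_eq _ f.isEmbedding.toHomeomorph.isHomeomorph).symm
  have h2 := Groth.Agent.Fga.DimLt.exists_ltSeries_succ hcl hne h1.ge
  rw [hY] at h2
  have h3 : n + 1 ≤ n := by exact_mod_cast h2
  omega

/-- The dimension of an integral scheme locally of finite type over a field is a natural number. -/
theorem exists_dim {X : Scheme.{u}} (f : X ⟶ Spec (CommRingCat.of k)) [LocallyOfFiniteType f] [IrreducibleSpace X] :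
    ∃ n : ℕ, topologicalKrullDim X = n := by
  let _ : X.Over (Spec (CommRingCat.of k)) := ⟨f⟩
  have : LocallyOfFiniteType (X ↘ Spec (CommRingCat.of k)) := inferInstanceAs (LocallyOfFiniteType f)
  exact ⟨_, Groth.Agent.VarietyB.DimSch.topologicalKrullDim_eq_trd k⟩

theorem one_eq (A : Over (Spec (CommRingCat.of k))) [GrpObj A] :
    (1 : 𝟙_ (Over (Spec (CommRingCat.of k))) ⟶ A) = η[A] := by
  change toUnit _ ≫ η[A] = η[A]
  rw [toUnit_unique (toUnit _) (𝟙 _), Category.id_comp]

/-- The translation by a point. -/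
noncomputable def tr {A : Over (Spec (CommRingCat.of k))} [GrpObj A] (a : 𝟙_ (Over (Spec (CommRingCat.of k))) ⟶ A) :
    A ⟶ A := (toUnit A ≫ a) * 𝟙 A

theorem comp_tr {A T : Over (Spec (CommRingCat.of k))} [GrpObj A] (a : 𝟙_ (Over (Spec (CommRingCat.of k))) ⟶ A)
    (x : T ⟶ A) : x ≫ tr a = (toUnit T ≫ a) * x := by
  rw [tr, MonObj.comp_mul, Category.comp_id, ← Category.assoc, toUnit_unique (x ≫ toUnit A) (toUnit T)]

/-- The torsion of an abelian variety: upper bound. -/
theorem TB_of_proper [IsAlgClosed k] (A : Over (Spec (CommRingCat.of k))) [GrpObj A] [IsCommMonObj A]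
    [IsProper A.hom] [GeometricallyIntegral A.hom] (g : ℕ) (hg : topologicalKrullDim A.left = g) (l : ℕ)
    (hl : (l : k) ≠ 0) : TB (𝟙_ (Over (Spec (CommRingCat.of k))) ⟶ A) l (2 * g) := by
  classical
  refine ⟨1, fun n s hs => ?_⟩
  have hl' : ((l ^ n : ℕ) : k) ≠ 0 := by rw [Nat.cast_pow]; exact pow_ne_zero _ hl
  have h1 := Etcore.AbTors.card_torsion A g hg (l ^ n) hl'
  have hl0 : l ≠ 0 := by rintro rfl; exact hl Nat.cast_zero
  have hpos : 0 < (l ^ n) ^ (2 * g) := pow_pos (pow_pos (Nat.pos_of_ne_zero hl0) _) _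
  have hfin : Finite {x : Over.mk (𝟙 (Spec (CommRingCat.of k))) ⟶ A // x ^ (l ^ n) = 1} :=
    Nat.finite_of_card_ne_zero (by rw [h1]; exact hpos.ne')
  rw [_root_.one_mul, _root_.mul_comm (2 * g), pow_mul, ← h1, ← Nat.card_eq_finsetCard s]
  exact Nat.card_le_card_of_injective (fun x : s => (⟨x.1, hs x.1 x.2⟩ :
    {x : Over.mk (𝟙 (Spec (CommRingCat.of k))) ⟶ A // x ^ (l ^ n) = 1}))
    (fun x y h => Subtype.ext (by
      have h' := Subtype.mk.inj h
      exact h'))

/-- Two points of a group scheme in one irreducible component differ by a point of the identity component. -/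
theorem mul_inv_mem_connectedComponent (W : Over (Spec (CommRingCat.of k))) [GrpObj W]
    (x y : 𝟙_ (Over (Spec (CommRingCat.of k))) ⟶ W) (h : irreducibleComponent (pt x) = irreducibleComponent (pt y)) :
    pt (x⁻¹ * y) ∈ connectedComponent (pt η[W]) := by
  have h5 : pt y ∈ irreducibleComponent (pt x) := by
    rw [h]
    exact mem_irreducibleComponent
  have h6 : _root_.IsPreconnected ((tr x⁻¹).left '' irreducibleComponent (pt x)) :=
    isIrreducible_irreducibleComponent.isPreirreducible.isPreconnected.image _ (tr x⁻¹).left.continuous.continuousOn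
  have h7 : ∀ z : 𝟙_ (Over (Spec (CommRingCat.of k))) ⟶ W, (tr x⁻¹).left (pt z) = pt (x⁻¹ * z) := by
    intro z
    rw [← pt_comp, comp_tr, toUnit_unique (toUnit _) (𝟙 _), Category.id_comp]
  have h8 : pt (1 : 𝟙_ (Over (Spec (CommRingCat.of k))) ⟶ W) = pt η[W] := by rw [one_eq]
  have h9 := h6.subset_connectedComponent (x := pt η[W]) ⟨pt x, mem_irreducibleComponent, by
    rw [h7, inv_mul_cancel, h8]⟩
  exact h9 ⟨pt y, h5, h7 y⟩

theorem TL_of_proper [IsAlgClosed k] (A : Over (Spec (CommRingCat.of k))) [GrpObj A] [IsCommMonObj A]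
    [IsProper A.hom] [GeometricallyIntegral A.hom] (g : ℕ) (hg : topologicalKrullDim A.left = g) (l : ℕ)
    (hl : (l : k) ≠ 0) (n : ℕ) : ∃ s : Finset (𝟙_ (Over (Spec (CommRingCat.of k))) ⟶ A), (∀ x ∈ s, x ^ (l ^ n) = 1) ∧ l ^ (2 * g * n) ≤ 1 * s.card := by
  classical
  have hl' : ((l ^ n : ℕ) : k) ≠ 0 := by rw [Nat.cast_pow]; exact pow_ne_zero _ hl
  have h1 := Etcore.AbTors.card_torsion A g hg (l ^ n) hl'
  have hl0 : l ≠ 0 := by rintro rfl; exact hl Nat.cast_zero
  have hpos : 0 < (l ^ n) ^ (2 * g) := pow_pos (pow_pos (Nat.pos_of_ne_zero hl0) _) _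
  have hfin : Finite {x : Over.mk (𝟙 (Spec (CommRingCat.of k))) ⟶ A // x ^ (l ^ n) = 1} :=
    Nat.finite_of_card_ne_zero (by rw [h1]; exact hpos.ne')
  have hfin' : {x : 𝟙_ (Over (Spec (CommRingCat.of k))) ⟶ A | x ^ (l ^ n) = 1}.Finite := hfin
  refine ⟨hfin'.toFinset, fun x hx => hfin'.mem_toFinset.1 hx, ?_⟩
  rw [_root_.one_mul, _root_.mul_comm (2 * g), pow_mul, ← h1]
  exact (Nat.card_eq_card_finite_toFinset hfin').le

/-- A closed subgroup containing all points of `l`-power order is everything. -/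
theorem surjective_of_torsion [IsAlgClosed k] (A : Over (Spec (CommRingCat.of k))) [GrpObj A] [IsCommMonObj A]
    [IsProper A.hom] [GeometricallyIntegral A.hom] (l : ℕ) (hl : (l : k) ≠ 0) (hl2 : 2 ≤ l)
    (H : Over (Spec (CommRingCat.of k))) [GrpObj H] (i : H ⟶ A) [IsMonHom i] [IsClosedImmersion i.left]
    (h : ∀ (n : ℕ) (x : 𝟙_ (Over (Spec (CommRingCat.of k))) ⟶ A), x ^ (l ^ n) = 1 →
      ∃ y : 𝟙_ (Over (Spec (CommRingCat.of k))) ⟶ H, y ≫ i = x) : Surjective i.left := by
  classical
  have hred : IsReduced (𝟙_ (Over (Spec (CommRingCat.of k)))).left :=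
    inferInstanceAs (IsReduced (Spec (CommRingCat.of k)))
  have himono : Mono i := mono_of_isClosedImmersion _
  have hHcomm : IsCommMonObj H := isCommMonObj_of_mono i
  have hHp : IsProper H.hom := by
    rw [← Over.w i]; infer_instance
  have hHft : LocallyOfFiniteType H.hom := inferInstance
  have hHc : CompactSpace H.left := QuasiCompact.compactSpace_of_compactSpace H.hom
  obtain ⟨U, gU, u, hum, huc, hUs, hUc, hur⟩ := Groth.Agent.Sga3B.RedIdComp.exists_redIdComp H
  have humono' : Mono u := mono_of_isClosedImmersion _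
  have hUcomm : IsCommMonObj U := isCommMonObj_of_mono u
  have hcl : IsClosedImmersion (u ≫ i).left := by rw [Over.comp_left]; infer_instance
  have hUp : IsProper U.hom := by
    rw [← Over.w (u ≫ i)]; infer_instance
  have hUgi : GeometricallyIntegral U.hom := geometricallyIntegral_of_smooth_connected U
  have hAi : IsIntegral A.left := GeometricallyIntegral.isIntegral_of_subsingleton A.hom
  have hUi : IsIntegral U.left := GeometricallyIntegral.isIntegral_of_subsingleton U.hom
  obtain ⟨g, hg⟩ := exists_dim A.hom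
  obtain ⟨g', hg'⟩ := exists_dim U.hom
  have hl1 : 1 ≤ l := by omega
  -- the torsion of `H`
  have h1 : TL (𝟙_ (Over (Spec (CommRingCat.of k))) ⟶ H) l (2 * g) := by
    refine ⟨1, fun n => ?_⟩
    obtain ⟨s, hs, hs'⟩ := TL_of_proper A g hg l hl n
    choose! f hf using fun x (hx : x ∈ s) => h n x (hs x hx)
    have hinj : Set.InjOn f s := by
      intro x hx x' hx' hxx'
      rw [← hf x hx, ← hf x' hx', hxx']
    refine ⟨s.image f, ?_, ?_⟩
    · intro w hw
      obtain ⟨x, hx, rfl⟩ := Finset.mem_image.mp hw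
      rw [← cancel_mono i, MonObj.pow_comp, hf x hx, hs x hx, MonObj.one_comp]
    · rw [Finset.card_image_of_injOn hinj]
      exact hs'
  have h2' : IsLocallyNoetherian H.left := LocallyOfFiniteType.isLocallyNoetherian H.hom
  have h2 : IsNoetherian H.left := { }
  have h3 : TopologicalSpace.NoetherianSpace H.left := inferInstance
  have h4 : Finite (irreducibleComponents H.left) := TopologicalSpace.NoetherianSpace.finite_irreducibleComponents
  have h5 : TL (𝟙_ (Over (Spec (CommRingCat.of k))) ⟶ U) l (2 * g) := by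
    refine TL.of_finite_quotient hl1 (ptsMap u) (fun x y h => (cancel_mono u).mp h)
      (fun x => (⟨irreducibleComponent (pt x), irreducibleComponent_mem_irreducibleComponents _⟩ :
        irreducibleComponents H.left)) (fun x y hxy => ?_) h1
    have h6 := mul_inv_mem_connectedComponent H y x (congrArg Subtype.val hxy).symm
    rw [← hur] at h6
    obtain ⟨z, hz⟩ := exists_lift u (y⁻¹ * x) (by
      rintro _ ⟨z, rfl⟩
      have : z = IsLocalRing.closedPoint k := Subsingleton.elim (α := PrimeSpectrum k) _ _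
      rw [this]
      exact h6)
    exact ⟨z, by rw [_root_.mul_comm x]; exact hz⟩
  have h6 := TB_of_proper U g' hg' l hl
  have h7 : g ≤ g' := by
    by_contra hlt
    exact not_TB_of_TL hl2 h5 (by omega : 2 * g' < 2 * g) h6
  have h8 : g' ≤ g := by
    have h9 : topologicalKrullDim U.left ≤ topologicalKrullDim A.left :=
      (u ≫ i).left.isClosedEmbedding.isInducing.topologicalKrullDim_le
    rw [hg, hg'] at h9
    exact_mod_cast h9
  have hgg : g' = g := le_antisymm h8 h7
  subst hgg
  have huniv : Set.range (u ≫ i).left = Set.univ := range_eq_univ _ g' hg' hg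
  refine ⟨fun z => ?_⟩
  obtain ⟨v, hv⟩ : z ∈ Set.range (u ≫ i).left := by rw [huniv]; trivial
  exact ⟨u.left v, by rw [← hv, Over.comp_left, Scheme.Hom.comp_apply]⟩

/-- A homomorphism killing all points of `l`-power order is trivial. -/
theorem eq_one_of_torsion [IsAlgClosed k] (A : Over (Spec (CommRingCat.of k))) [GrpObj A] [IsCommMonObj A]
    [IsProper A.hom] [GeometricallyIntegral A.hom] (l : ℕ) (hl : (l : k) ≠ 0) (hl2 : 2 ≤ l)
    (B : Over (Spec (CommRingCat.of k))) [GrpObj B] [IsSeparated B.hom] (φ : A ⟶ B) [IsMonHom φ]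
    (h : ∀ (n : ℕ) (x : 𝟙_ (Over (Spec (CommRingCat.of k))) ⟶ A), x ^ (l ^ n) = 1 → x ≫ φ = 1) : φ = 1 := by
  obtain ⟨F, gF, i, hi, hic, hpb⟩ := K510.KerLemmas.exists_closedKernel φ
  have h1 := surjective_of_torsion A l hl hl2 F i (fun n x hx =>
    ⟨hpb.lift x (toUnit _) (by rw [h n x hx]; rfl), hpb.lift_fst _ _ _⟩)
  have hAi : IsIntegral A.left := GeometricallyIntegral.isIntegral_of_subsingleton A.hom
  obtain ⟨s, hs⟩ := exists_lift i (𝟙 A) (by
    rw [Set.range_eq_univ.2 h1.1]
    exact Set.subset_univ _)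
  have h2 : i ≫ φ = 1 := hpb.w
  rw [← Category.id_comp φ, ← hs, Category.assoc, h2, MonObj.comp_one]

end K510.TorsGen
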